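import Mathlib.RingTheory.Jacobson.Ring
import Mathlib.RingTheory.TensorProduct.MvPolynomial
import Mathlib.RingTheory.Ideal.GoingUp
import Mathlib.RingTheory.IntegralClosure.IsIntegralClosure.Basic
import Mathlib.RingTheory.AlgebraicIndependent.TranscendenceBasis
import Mathlib.RingTheory.Flat.Basic
import Mathlib.RingTheory.Algebraic.Integral
import Mathlib.RingTheory.Nilpotent.Lemmas

/-!
# A proper closed subset of a geometrically irreducible family misses a closed fibre
-/

set_option backward.isDefEq.respectTransparency false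
set_option backward.isDefEq.respectTransparency.types false

universe u

open TensorProduct MvPolynomial

namespace Groth.Agent.AlgSpGrp5

attribute [local instance] MvPolynomial.algebraMvPolynomial

theorem exists_maximal_avoiding (k L A : Type u) [Field k] [Field L] [CommRing A] [IsDomain A]
    [Algebra k L] [Algebra k A] [Algebra.FiniteType k A] (I : Ideal (A ⊗[k] L))
    (hN : (nilradical (A ⊗[k] L)).IsPrime) (hI : ¬ I ≤ nilradical (A ⊗[k] L)) :
    ∃ m : Ideal A, m.IsMaximal ∧
      ∀ P : Ideal (A ⊗[k] L), P.IsPrime → I ≤ P → P.comap (algebraMap A (A ⊗[k] L)) ≠ m := by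
  classical
  obtain ⟨s, hs⟩ := exists_isTranscendenceBasis k L
  let ψ : MvPolynomial s A →ₐ[A] A ⊗[k] L := aeval fun i => (1 : A) ⊗ₜ[k] (i.1 : L)
  let ι : MvPolynomial s k →ₐ[k] L := aeval Subtype.val
  have hι : Function.Injective ι := hs.1
  have hψι : ψ = (Algebra.TensorProduct.map (AlgHom.id A A) ι).comp
      (algebraTensorAlgEquiv (σ := s) k A).symm.toAlgHom := by
    refine MvPolynomial.algHom_ext fun i => ?_
    simp [ψ, ι, algebraTensorAlgEquiv_symm_X]
  have hψ : Function.Injective ψ := by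
    rw [hψι]
    exact (Module.Flat.lTensor_preserves_injective_linearMap (M := A) ι.toLinearMap hι).comp
      (algebraTensorAlgEquiv (σ := s) k A).symm.injective
  let N := nilradical (A ⊗[k] L)
  haveI : N.IsPrime := hN
  let φ : MvPolynomial s A →+* (A ⊗[k] L) ⧸ N := (Ideal.Quotient.mk N).comp ψ.toRingHom
  have hφ : Function.Injective φ := by
    rw [injective_iff_map_eq_zero]
    intro x hx
    obtain ⟨n, hn⟩ : IsNilpotent (ψ x) := mem_nilradical.1 (Ideal.Quotient.eq_zero_iff_mem.1 hx)
    rw [← map_pow, map_eq_zero_iff ψ hψ] at hn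
    exact eq_zero_of_pow_eq_zero hn
  letI := φ.toAlgebra
  have : IsDomain ((A ⊗[k] L) ⧸ N) := Ideal.Quotient.isDomain N
  have hl : ∀ l : L, IsAlgebraic (MvPolynomial s A) (Ideal.Quotient.mk N ((1 : A) ⊗ₜ[k] l)) := fun l => by
    have : Algebra.IsAlgebraic (Algebra.adjoin k (Set.range (Subtype.val : s → L))) L := hs.isAlgebraic
    let e := hs.1.aevalEquiv
    refine (Algebra.IsAlgebraic.isAlgebraic (R := Algebra.adjoin k (Set.range (Subtype.val : s → L))) l).ringHom_of_comp_eq
      ((MvPolynomial.map (algebraMap k A)).comp e.symm.toAlgHom.toRingHom)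
      ((Ideal.Quotient.mk N).comp (Algebra.TensorProduct.includeRight (R := k) (A := A) (B := L)).toRingHom)
      ((MvPolynomial.map_injective _ (algebraMap k A).injective).comp e.symm.injective) (RingHom.ext fun x => ?_)
    obtain ⟨y, rfl⟩ := e.surjective x
    show φ (MvPolynomial.map (algebraMap k A) (e.symm (e y))) = Ideal.Quotient.mk N ((1 : A) ⊗ₜ[k] (e y : L))
    rw [e.symm_apply_apply]
    refine congrArg (Ideal.Quotient.mk N) ?_
    show ψ (MvPolynomial.map (algebraMap k A) y) = _
    rw [show (e y : L) = MvPolynomial.aeval Subtype.val y from hs.1.algebraMap_aevalEquiv y]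
    have : ((ψ.toRingHom.comp (MvPolynomial.map (algebraMap k A))) : MvPolynomial s k →+* A ⊗[k] L) =
        (Algebra.TensorProduct.includeRight (R := k) (A := A) (B := L)).toRingHom.comp ι.toRingHom := by
      refine MvPolynomial.ringHom_ext (fun a => ?_) fun i => ?_
      · simp [ψ, ι, Algebra.TensorProduct.tmul_one_eq_one_tmul]
      · simp [ψ, ι]
    exact RingHom.congr_fun this y
  have halg : ∀ t : A ⊗[k] L, IsAlgebraic (MvPolynomial s A) (Ideal.Quotient.mk N t) := by
    intro t
    induction t with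
    | zero => rw [map_zero]; exact isAlgebraic_zero
    | add x y hx hy => rw [map_add]; exact hx.add hy
    | tmul a l =>
      have : Ideal.Quotient.mk N (a ⊗ₜ[k] l) =
          algebraMap (MvPolynomial s A) _ (C a) * Ideal.Quotient.mk N ((1 : A) ⊗ₜ[k] l) := by
        show _ = φ (C a) * _
        simp [φ, ψ, ← map_mul]
      rw [this]
      exact (isAlgebraic_algebraMap _).mul (hl l)
  obtain ⟨f, hfI, hfN⟩ := SetLike.not_le_iff_exists.1 hI
  obtain ⟨r, hr0, hdvd⟩ := (halg f).exists_nonzero_dvd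
    (mem_nonZeroDivisors_of_ne_zero (fun h => hfN (Ideal.Quotient.eq_zero_iff_mem.1 h)))
  obtain ⟨g, hg⟩ := hdvd
  obtain ⟨g, rfl⟩ := Ideal.Quotient.mk_surjective g
  have hrP : ∀ P : Ideal (A ⊗[k] L), P.IsPrime → I ≤ P → ψ r ∈ P := fun P hP hIP => by
    have h1 : ψ r - f * g ∈ N := Ideal.Quotient.eq.1 (hg.trans (map_mul _ _ _).symm)
    have h2 : f * g ∈ P := P.mul_mem_right _ (hIP hfI)
    simpa using P.add_mem (nilradical_le_prime P h1) h2
  obtain ⟨d, hd⟩ := MvPolynomial.ne_zero_iff.1 hr0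
  haveI : IsJacobsonRing A := isJacobsonRing_of_finiteType (A := k)
  obtain ⟨m, hm, hdm⟩ : ∃ m : Ideal A, m.IsMaximal ∧ r.coeff d ∉ m := by
    have h : r.coeff d ∉ (⊥ : Ideal A).jacobson := by
      rwa [IsJacobsonRing.out' (⊥ : Ideal A) Ideal.isPrime_bot.isRadical, Ideal.mem_bot]
    rw [Ideal.jacobson, Submodule.mem_sInf] at h
    push Not at h
    obtain ⟨m, ⟨-, hm⟩, hdm⟩ := h
    exact ⟨m, hm, hdm⟩
  refine ⟨m, hm, fun P hP hIP hPm => hdm ?_⟩
  haveI := hP
  letI := Ideal.Quotient.field m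
  haveI : Module.Finite k (A ⧸ m) := finite_of_finite_type_of_isJacobsonRing k (A ⧸ m)
  let a₀ : A →+* (A ⊗[k] L) ⧸ P := (Ideal.Quotient.mk P).comp (algebraMap A (A ⊗[k] L))
  let ξ : MvPolynomial s (A ⧸ m) →+* (A ⊗[k] L) ⧸ P :=
    eval₂Hom (Ideal.Quotient.lift m a₀ fun a ha => by
        rw [← hPm] at ha
        exact Ideal.Quotient.eq_zero_iff_mem.2 ha)
      fun i => Ideal.Quotient.mk P ((1 : A) ⊗ₜ[k] (i.1 : L))
  have hξ : ξ.comp (MvPolynomial.map (Ideal.Quotient.mk m)) = (Ideal.Quotient.mk P).comp ψ.toRingHom := by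
    refine MvPolynomial.ringHom_ext (fun a => ?_) fun i => ?_
    · simp [ξ, ψ, a₀]; rfl
    · simp [ξ, ψ]
  have hξk : ξ.comp (algebraMap (MvPolynomial s k) (MvPolynomial s (A ⧸ m))) =
      ((Ideal.Quotient.mk P).comp (Algebra.TensorProduct.includeRight (R := k) (A := A) (B := L)).toRingHom).comp
        ι.toRingHom := by
    refine MvPolynomial.ringHom_ext (fun a => ?_) fun i => ?_
    · simp only [RingHom.comp_apply, MvPolynomial.algebraMap_def, MvPolynomial.map_C, ξ, coe_eval₂Hom, eval₂_C,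
        IsScalarTower.algebraMap_apply k A (A ⧸ m), Ideal.Quotient.algebraMap_eq, Ideal.Quotient.lift_mk, a₀]
      refine congrArg (Ideal.Quotient.mk P) ?_
      show algebraMap A (A ⊗[k] L) (algebraMap k A a) = (1 : A) ⊗ₜ[k] ι (C a)
      rw [← IsScalarTower.algebraMap_apply, show ι (C a) = algebraMap k L a from MvPolynomial.aeval_C _ a,
        Algebra.TensorProduct.algebraMap_apply, Algebra.TensorProduct.tmul_one_eq_one_tmul]
    · simp only [RingHom.comp_apply, MvPolynomial.algebraMap_def, MvPolynomial.map_X, ξ, coe_eval₂Hom, eval₂_X]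
      exact congrArg (fun l => Ideal.Quotient.mk P ((1 : A) ⊗ₜ[k] l)) (MvPolynomial.aeval_X _ i).symm
  haveI : (RingHom.ker ξ).IsPrime := RingHom.ker_isPrime ξ
  have hker : RingHom.ker ξ = ⊥ := by
    refine Ideal.eq_bot_of_comap_eq_bot (R := MvPolynomial s k) ?_
    rw [RingHom.comap_ker, hξk]
    exact (RingHom.injective_iff_ker_eq_bot _).1
      ((((Ideal.Quotient.mk P).comp
        (Algebra.TensorProduct.includeRight (R := k) (A := A) (B := L)).toRingHom).injective).comp hι)
  have h0 : MvPolynomial.map (Ideal.Quotient.mk m) r = 0 := by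
    refine (RingHom.injective_iff_ker_eq_bot ξ).2 hker ?_
    rw [map_zero]
    exact (RingHom.congr_fun hξ r).trans (Ideal.Quotient.eq_zero_iff_mem.2 (hrP P hP hIP))
  have := congrArg (MvPolynomial.coeff d) h0
  rw [MvPolynomial.coeff_map, MvPolynomial.coeff_zero] at this
  exact Ideal.Quotient.eq_zero_iff_mem.1 this

end Groth.Agent.AlgSpGrp5
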