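import Groth.Agent.AlgSpGrp5.Law
import Groth.Agent.AlgSpDec.QsDense
import Groth.Agent.AlgSpDec.PointsSpectral
import Groth.Agent.GeomSep.Basic
import Mathlib.RingTheory.Ideal.GoingUp
import Mathlib.RingTheory.IntegralClosure.IsIntegralClosure.Basic

/-!
# A geometrically irreducible field-valued point generalising the unit
-/

set_option backward.isDefEq.respectTransparency false
set_option backward.isDefEq.respectTransparency.types false

universe u

open CategoryTheory CategoryTheory.Limits AlgebraicGeometry AlgSp Groth.Agent.AlgSpLib Groth.Agent.AlgSpPts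
  Groth.Agent.AlgSpDec TensorProduct Order

namespace Groth.Agent.AlgSpGrp5

variable {k : Type u} [Field k]

/-- A chart, base changed along an affine scheme. -/
noncomputable abbrev prodChart {X : Sp (base k)} {R : Type u} [CommRing R] [Algebra k R] (a : yS k R ⟶ X)
    (L : Type u) [CommRing L] [Algebra k L] : yS k (R ⊗[k] L) ⟶ X ⨯ yS k L :=
  prod.lift (yM (Algebra.TensorProduct.includeLeft : R →ₐ[k] R ⊗[k] L) ≫ a)
    (yM (Algebra.TensorProduct.includeRight : L →ₐ[k] R ⊗[k] L))

theorem exists_lift_point {X : Sp (base k)} {R L : Type u} [CommRing R] [Algebra k R] [CommRing L] [Algebra k L]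
    (a : yS k R ⟶ X) (x : Points (X ⨯ yS k L)) (p : PrimeSpectrum R)
    (h : Points.map prod.fst x = pt a p) :
    ∃ q : PrimeSpectrum (R ⊗[k] L),
      PrimeSpectrum.comap (algebraMap R (R ⊗[k] L)) q = p ∧ pt (prodChart a L) q = x := by
  obtain ⟨z, hz₁, hz₂⟩ := exists_point_of_isPullback (isPullback_prod_chart a)
    (y := Points.ofScheme (specK k R) p) (h.trans (Points.ofPt_eq_map_ofScheme _ _))
  obtain ⟨q, rfl⟩ := (Points.schemeHomeo (specK k (R ⊗[k] L))).surjective z
  have h' : (specMap (Algebra.TensorProduct.includeLeft : R →ₐ[k] R ⊗[k] L)).left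
      (q : ↥(specK k (R ⊗[k] L)).left) = (p : ↥(specK k R).left) :=
    (Points.schemeHomeo (specK k R)).injective ((Points.map_yon_map_apply _ _).symm.trans hz₂)
  refine ⟨q, h', ?_⟩
  exact (Points.ofPt_eq_map_ofScheme _ _).trans hz₁

theorem map_fst_pt_prodChart {X : Sp (base k)} {R L : Type u} [CommRing R] [Algebra k R] [CommRing L] [Algebra k L]
    (a : yS k R ⟶ X) (q : PrimeSpectrum (R ⊗[k] L)) :
    Points.map prod.fst (pt (prodChart a L) q) = pt a (PrimeSpectrum.comap (algebraMap R (R ⊗[k] L)) q) := by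
  rw [map_pt, prod.lift_fst, pt_yM]
  rfl

theorem isOpenEmbedding_pt {X : Sp (base k)} (hX : IsAlgSpace X) {R : Type u} [CommRing R] [Algebra k R]
    {j : yS k R ⟶ X} (hj : RepWith @IsOpenImmersion j) : Topology.IsOpenEmbedding (pt j) := by
  rw [show pt j = Points.map j ∘ Points.schemeHomeo (specK k R) from
    funext fun q => Points.ofPt_eq_map_ofScheme j q]
  exact (isOpenEmbedding_map' hX hj).comp (Points.schemeHomeo (specK k R)).isOpenEmbedding

theorem maximal_of_coheight {X : Sp (base k)} (hX : IsAlgSpace X) {R : Type u} [CommRing R] [Algebra k R]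
    {j : yS k R ⟶ X} (hj : RepWith @IsOpenImmersion j) {t : PrimeSpectrum R}
    (ht : coheight (α := ↥(specK k R).left) t = 0) {p : Points X} (h : p ⤳ pt j t) : p = pt j t := by
  obtain ⟨t', rfl⟩ := h.mem_open (isOpenEmbedding_pt hX hj).isOpen_range ⟨t, rfl⟩
  have h' := (isOpenEmbedding_pt hX hj).isInducing.specializes_iff.1 h
  exact congrArg (pt j) (eq_of_specializes_of_coheight (X := (specK k R).left) ht h')

theorem mono_yM_residue {R : Type u} [CommRing R] [Algebra k R] (t : PrimeSpectrum R) :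
    Mono (yM (IsScalarTower.toAlgHom k R t.asIdeal.ResidueField)) := by
  have : IsPreimmersion (Spec.map (CommRingCat.ofHom (algebraMap (R ⧸ t.asIdeal) t.asIdeal.ResidueField))) :=
    IsPreimmersion.of_isLocalization (nonZeroDivisors (R ⧸ t.asIdeal))
  have : IsClosedImmersion (Spec.map (CommRingCat.ofHom (Ideal.Quotient.mk t.asIdeal))) :=
    IsClosedImmersion.spec_of_surjective _ Ideal.Quotient.mk_surjective
  have h : (specMap (IsScalarTower.toAlgHom k R t.asIdeal.ResidueField)).left =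
      Spec.map (CommRingCat.ofHom (algebraMap (R ⧸ t.asIdeal) t.asIdeal.ResidueField)) ≫
        Spec.map (CommRingCat.ofHom (Ideal.Quotient.mk t.asIdeal)) := by
    rw [← Spec.map_comp, ← CommRingCat.ofHom_comp]
    exact congrArg (fun g => Spec.map (CommRingCat.ofHom g))
      (IsScalarTower.algebraMap_eq R (R ⧸ t.asIdeal) t.asIdeal.ResidueField)
  have : Mono (specMap (IsScalarTower.toAlgHom k R t.asIdeal.ResidueField)).left := by
    rw [h]; infer_instance
  have : Mono (specMap (IsScalarTower.toAlgHom k R t.asIdeal.ResidueField)) :=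
    (Over.forget _).mono_of_mono_map this
  exact inferInstanceAs (Mono ((yon (base k)).map (specMap (IsScalarTower.toAlgHom k R t.asIdeal.ResidueField))))

theorem exists_compositum {K : Type u} [Field K] [IsAlgClosed K] {A A' : Type u} [CommRing A] [IsDomain A]
    [Algebra K A] [CommRing A'] [Algebra K A'] (q : PrimeSpectrum A') :
    ∃ (Ω : Type u) (_ : Field Ω) (_ : Algebra K Ω) (φ : A →ₐ[K] Ω) (φ' : A' →ₐ[K] Ω),
      RingHom.ker φ.toRingHom = ⊥ ∧ RingHom.ker φ'.toRingHom = q.asIdeal := by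
  let F := FractionRing A
  let F' := q.asIdeal.ResidueField
  have : IsDomain (F ⊗[K] F') := GrpSchLib.isDomain_tensor_of_isAlgClosed
  let Ω := FractionRing (F ⊗[K] F')
  let i : F →ₐ[K] Ω := (IsScalarTower.toAlgHom K (F ⊗[K] F') Ω).comp Algebra.TensorProduct.includeLeft
  let i' : F' →ₐ[K] Ω := (IsScalarTower.toAlgHom K (F ⊗[K] F') Ω).comp Algebra.TensorProduct.includeRight
  refine ⟨Ω, inferInstance, inferInstance, i.comp (IsScalarTower.toAlgHom K A F),
    i'.comp (IsScalarTower.toAlgHom K A' F'), ?_, ?_⟩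
  · exact (RingHom.injective_iff_ker_eq_bot _).1 (i.toRingHom.injective.comp (IsFractionRing.injective A F))
  · show RingHom.ker (i'.toRingHom.comp (algebraMap A' F')) = _
    rw [RingHom.ker_comp_of_injective _ i'.toRingHom.injective]
    exact Ideal.ker_algebraMap_residueField q.asIdeal

attribute [local instance] Algebra.TensorProduct.rightAlgebra

variable {G : Over ((AlgSp.yon (base k)).obj (Over.mk (𝟙 _)))} [GrpObj G]

/-- The unit point. -/
noncomputable def unitPt (G : Over ((AlgSp.yon (base k)).obj (Over.mk (𝟙 _)))) [GrpObj G] : Points G.left :=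
  pt (gone G (yS k k)) ⊥

theorem eq_gone_of_pt (hG : IsAlgSpace G.left) {Ω : Type u} [Field Ω] [Algebra k Ω] (g : yS k Ω ⟶ G.left)
    (q : PrimeSpectrum Ω) (h : pt g q = unitPt G) : g = gone G (yS k Ω) := by
  have : IsIso (Over.mkIdTerminal.from (specK k k)) := by
    have : IsIso ((Over.forget (base k)).map (Over.mkIdTerminal.from (specK k k))) := by
      have e : (Over.mkIdTerminal.from (specK k k)).left = Spec.map (CommRingCat.ofHom (algebraMap k k)) :=
        (Category.comp_id _).symm.trans (Over.w (Over.mkIdTerminal.from (specK k k)))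
      show IsIso (Over.mkIdTerminal.from (specK k k)).left
      rw [e, show algebraMap k k = RingHom.id k from Algebra.algebraMap_self, CommRingCat.ofHom_id, Spec.map_id]
      exact IsIso.id _
    exact isIso_of_reflects_iso _ (Over.forget _)
  have : Mono (gone G (yS k k) ≫ (isTerm k).from G.left) := by
    rw [(isTerm k).hom_ext (gone G (yS k k) ≫ (isTerm k).from G.left)
      ((yon (base k)).map (Over.mkIdTerminal.from (specK k k)))]
    infer_instance
  have : Mono (gone G (yS k k)) := mono_of_mono (gone G (yS k k)) ((isTerm k).from G.left)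
  obtain ⟨c, hc, -⟩ := existsUnique_factor (gone G (yS k k)) (hG.representable_from_yon _) g
    (by
      have e1 : (IsLocalRing.closedPoint k : PrimeSpectrum k) = ⊥ := Subsingleton.elim _ _
      have e2 : (IsLocalRing.closedPoint Ω : PrimeSpectrum Ω) = q := Subsingleton.elim _ _
      rw [e1, e2]
      exact h.symm)
  rw [← hc]
  exact comp_gone _

section generic

variable {K : Type u} [Field K] [Algebra k K] {A₁ A₂ Ω : Type u} [CommRing A₁] [Algebra k A₁] [Algebra K A₁]
  [IsScalarTower k K A₁] [CommRing A₂] [Algebra k A₂] [Algebra K A₂] [IsScalarTower k K A₂]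
  [Field Ω] [Algebra k Ω] [Algebra K Ω] [IsScalarTower k K Ω]

/-- The left factor of a tensor product over a bigger field. -/
noncomputable abbrev inl' : A₁ →ₐ[k] A₁ ⊗[K] A₂ :=
  (Algebra.TensorProduct.includeLeft : A₁ →ₐ[K] A₁ ⊗[K] A₂).restrictScalars k

/-- The right factor of a tensor product over a bigger field. -/
noncomputable abbrev inr' : A₂ →ₐ[k] A₁ ⊗[K] A₂ :=
  (Algebra.TensorProduct.includeRight : A₂ →ₐ[K] A₁ ⊗[K] A₂).restrictScalars k

variable (K) in
/-- The product of two sections, over the bigger field. -/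
noncomputable abbrev prodMul (c₁ : yS k A₁ ⟶ G.left) (c₂ : yS k A₂ ⟶ G.left) :
    yS k (A₁ ⊗[K] A₂) ⟶ G.left ⨯ yS k K :=
  prod.lift (gmul (yM (inl' (K := K)) ≫ c₁) (yM (inr' (K := K)) ≫ c₂))
    (yM (IsScalarTower.toAlgHom k K (A₁ ⊗[K] A₂)))

theorem prodMul_specializes [IsDomain (A₁ ⊗[K] A₂)] (c₁ : yS k A₁ ⟶ G.left) (c₂ : yS k A₂ ⟶ G.left)
    (φ₁ : A₁ →ₐ[K] Ω) (φ₂ : A₂ →ₐ[K] Ω) {g : yS k Ω ⟶ G.left}
    (hg : gmul (yM (φ₁.restrictScalars k) ≫ c₁) (yM (φ₂.restrictScalars k) ≫ c₂) = g) :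
    pt (prodMul K c₁ c₂) (⊥ : PrimeSpectrum (A₁ ⊗[K] A₂)) ⤳
      pt (prod.lift g (yM (IsScalarTower.toAlgHom k K Ω))) (⊥ : PrimeSpectrum Ω) := by
  let ψK : A₁ ⊗[K] A₂ →ₐ[K] Ω := Algebra.TensorProduct.lift φ₁ φ₂ fun _ _ => Commute.all _ _
  let ψ : A₁ ⊗[K] A₂ →ₐ[k] Ω := ψK.restrictScalars k
  have e₁ : yM ψ ≫ yM (inl' (k := k) (K := K) (A₁ := A₁) (A₂ := A₂)) = yM (φ₁.restrictScalars k) := by
    rw [← yM_comp]
    exact congrArg yM (AlgHom.ext fun x => by simp [ψ, ψK])
  have e₂ : yM ψ ≫ yM (inr' (k := k) (K := K) (A₁ := A₁) (A₂ := A₂)) = yM (φ₂.restrictScalars k) := by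
    rw [← yM_comp]
    exact congrArg yM (AlgHom.ext fun x => by simp [ψ, ψK])
  have e₃ : yM ψ ≫ yM (IsScalarTower.toAlgHom k K (A₁ ⊗[K] A₂)) = yM (IsScalarTower.toAlgHom k K Ω) := by
    rw [← yM_comp]
    exact congrArg yM (AlgHom.ext fun x => ψK.commutes x)
  have : yM ψ ≫ prodMul K c₁ c₂ = prod.lift g (yM (IsScalarTower.toAlgHom k K Ω)) := by
    rw [← hg]
    apply Limits.prod.hom_ext
    · rw [Category.assoc, prod.lift_fst, prod.lift_fst, comp_gmul, reassoc_of% e₁, reassoc_of% e₂]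
    · rw [Category.assoc, prod.lift_snd, prod.lift_snd, e₃]
  rw [← this, pt_yM]
  exact pt_specializes _ bot_le

end generic

section recognition

variable {R K Ω : Type u} [CommRing R] [Algebra k R] [Field K] [Algebra k K] [Field Ω] [Algebra k Ω] [Algebra K Ω]
  [IsScalarTower k K Ω]

theorem pt_lift_eq_of_ker (a : yS k R ⟶ G.left) (v : PrimeSpectrum (R ⊗[k] K))
    (φ : (R ⊗[k] K) ⧸ v.asIdeal →ₐ[K] Ω) (hφ : RingHom.ker φ.toRingHom = ⊥) :
    pt (prod.lift (yM (φ.restrictScalars k) ≫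
        yM ((Ideal.Quotient.mkₐ k v.asIdeal).comp Algebra.TensorProduct.includeLeft) ≫ a)
      (yM (IsScalarTower.toAlgHom k K Ω))) (⊥ : PrimeSpectrum Ω) = pt (prodChart a K) v := by
  have e : IsScalarTower.toAlgHom k K Ω =
      ((φ.restrictScalars k).comp (Ideal.Quotient.mkₐ k v.asIdeal)).comp Algebra.TensorProduct.includeRight :=
    AlgHom.ext fun x => (φ.commutes x).symm
  have : prod.lift (yM (φ.restrictScalars k) ≫
        yM ((Ideal.Quotient.mkₐ k v.asIdeal).comp Algebra.TensorProduct.includeLeft) ≫ a)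
      (yM (IsScalarTower.toAlgHom k K Ω)) =
      yM ((φ.restrictScalars k).comp (Ideal.Quotient.mkₐ k v.asIdeal)) ≫ prodChart a K := by
    rw [e]
    apply Limits.prod.hom_ext
    · simp only [Category.assoc, prod.lift_fst, yM_comp]
    · simp only [Category.assoc, prod.lift_snd, yM_comp]
  rw [this, pt_yM]
  refine congrArg (pt _) (PrimeSpectrum.ext ?_)
  show Ideal.comap (φ.toRingHom.comp (Ideal.Quotient.mk v.asIdeal)) ⊥ = v.asIdeal
  rw [← Ideal.comap_comap, ← RingHom.ker_eq_comap_bot, hφ, ← RingHom.ker_eq_comap_bot, Ideal.mk_ker]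

theorem section_eq_gone (hG : IsAlgSpace G.left) (a : yS k R ⟶ G.left) (w : PrimeSpectrum R)
    (haw : pt a w = unitPt G) {v q : PrimeSpectrum (R ⊗[k] K)} (hvq : v.asIdeal ≤ q.asIdeal)
    (hqw : PrimeSpectrum.comap (algebraMap R (R ⊗[k] K)) q = w)
    (φ : (R ⊗[k] K) ⧸ v.asIdeal →ₐ[K] Ω) (hφ : RingHom.ker φ.toRingHom = q.asIdeal.map (Ideal.Quotient.mk _)) :
    yM (φ.restrictScalars k) ≫
      yM ((Ideal.Quotient.mkₐ k v.asIdeal).comp Algebra.TensorProduct.includeLeft) ≫ a = gone G (yS k Ω) := by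
  refine eq_gone_of_pt hG _ ⊥ ?_
  rw [← haw, ← Category.assoc, ← yM_comp, pt_yM]
  refine congrArg (pt a) (PrimeSpectrum.ext ?_)
  show Ideal.comap ((φ.toRingHom.comp (Ideal.Quotient.mk v.asIdeal)).comp (algebraMap R (R ⊗[k] K))) ⊥ = w.asIdeal
  rw [← Ideal.comap_comap, ← Ideal.comap_comap, ← RingHom.ker_eq_comap_bot, hφ,
    Ideal.comap_map_of_surjective' _ Ideal.Quotient.mk_surjective, Ideal.mk_ker, sup_eq_left.2 hvq, ← hqw]
  rfl

end recognition

/-- A point of an open subscheme whose residue field is geometrically irreducible and which generalises the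
unit. -/
theorem exists_geomIrred_point (hG : IsAlgSpace G.left) (hsep : IsSeparatedSp G.left) :
    ∃ (R : Type u) (_ : CommRing R) (_ : Algebra k R) (j : yS k R ⟶ G.left) (t : PrimeSpectrum R),
      RepWith @IsOpenImmersion j ∧ (∀ p, p ⤳ pt j t → p = pt j t) ∧
      ∀ (L : Type u) [Field L] [Algebra k L],
        IrreducibleSpace (PrimeSpectrum (t.asIdeal.ResidueField ⊗[k] L)) := by
  have hqs : IsQuasiSeparatedSp G.left :=
    repWith_mono (fun _ _ f (_ : IsClosedImmersion f) => (inferInstance : QuasiCompact f)) _ hsep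
  obtain ⟨R₀, _, _, a, w, ha, haw⟩ := exists_chart_at hG (unitPt G)
  obtain ⟨u₀, hu₀, huw⟩ := Ideal.exists_minimalPrimes_le (show (⊥ : Ideal R₀) ≤ w.asIdeal from bot_le)
  let u : PrimeSpectrum R₀ := ⟨u₀, hu₀.1.1⟩
  have hu : coheight (α := ↥(specK k R₀).left) u = 0 := coheight_eq_zero.2 fun y hy =>
    Scheme.le_iff_specializes.2 <| (PrimeSpectrum.le_iff_specializes u y).1
      (hu₀.2 ⟨(y : PrimeSpectrum R₀).2, bot_le⟩
        ((PrimeSpectrum.le_iff_specializes y u).2 (Scheme.le_iff_specializes.1 hy)))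
  obtain ⟨T, jT, hjT, hmem⟩ := exists_open_subscheme_of_codimZero_qs hG hqs ha u hu
  obtain ⟨R, _, _, j, t, hj, hjt⟩ := exists_open_affine_at hjT hmem
  have ht : coheight (α := ↥(specK k R).left) t = 0 := by
    rw [← hu]
    exact coheight_eq_of_charts
      (repWith_mono (fun _ _ f (_ : IsOpenImmersion f) => (inferInstance : Etale f)) _ hj) ha hjt
  have hmax : ∀ p, p ⤳ pt j t → p = pt j t := fun p => maximal_of_coheight hG hj ht
  refine ⟨R, inferInstance, inferInstance, j, t, hj, hmax, ?_⟩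
  let K' := AlgebraicClosure k
  have key : ∀ x₁ x₂ : Points (G.left ⨯ yS k K'),
      Points.map prod.fst x₁ = pt j t → Points.map prod.fst x₂ = pt j t → x₁ = x₂ := by
    intro x₁ x₂ h₁ h₂
    obtain ⟨u₁, hu₁, hx₁⟩ := exists_lift_point a x₁ u (h₁.trans hjt)
    obtain ⟨u₂, hu₂, hx₂⟩ := exists_lift_point a x₂ u (h₂.trans hjt)
    have : Algebra.IsAlgebraic k K' := inferInstance
    have : Algebra.IsIntegral R₀ (R₀ ⊗[k] K') := inferInstance
    have upw : ∀ v : PrimeSpectrum (R₀ ⊗[k] K'), PrimeSpectrum.comap (algebraMap R₀ (R₀ ⊗[k] K')) v = u →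
        ∃ q : PrimeSpectrum (R₀ ⊗[k] K'), v.asIdeal ≤ q.asIdeal ∧
          PrimeSpectrum.comap (algebraMap R₀ (R₀ ⊗[k] K')) q = w := fun v hv => by
      have : Ideal.comap (algebraMap R₀ (R₀ ⊗[k] K')) v.asIdeal ≤ w.asIdeal :=
        (congrArg PrimeSpectrum.asIdeal hv).le.trans huw
      obtain ⟨Q, hQ, hQP, hQw⟩ := Ideal.exists_ideal_over_prime_of_isIntegral w.asIdeal v.asIdeal this
      exact ⟨⟨Q, hQP⟩, hQ, PrimeSpectrum.ext hQw⟩
    obtain ⟨q₁, hq₁, hq₁w⟩ := upw u₁ hu₁
    obtain ⟨q₂, hq₂, hq₂w⟩ := upw u₂ hu₂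
    let A₁ := (R₀ ⊗[k] K') ⧸ u₁.asIdeal
    let A₂ := (R₀ ⊗[k] K') ⧸ u₂.asIdeal
    let π₁ : R₀ ⊗[k] K' →ₐ[k] A₁ := Ideal.Quotient.mkₐ k u₁.asIdeal
    let π₂ : R₀ ⊗[k] K' →ₐ[k] A₂ := Ideal.Quotient.mkₐ k u₂.asIdeal
    have : IsDomain A₁ := Ideal.Quotient.isDomain _
    have : IsDomain A₂ := Ideal.Quotient.isDomain _
    have : IsDomain (A₁ ⊗[K'] A₂) := GrpSchLib.isDomain_tensor_of_isAlgClosed
    let c₁ : yS k A₁ ⟶ G.left := yM (π₁.comp Algebra.TensorProduct.includeLeft) ≫ a
    let c₂ : yS k A₂ ⟶ G.left := yM (π₂.comp Algebra.TensorProduct.includeLeft) ≫ a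
    let μ := pt (prodMul K' c₁ c₂) (⊥ : PrimeSpectrum (A₁ ⊗[K'] A₂))
    have s₁ : μ ⤳ x₁ := by
      let q' : PrimeSpectrum A₂ := ⟨q₂.asIdeal.map (Ideal.Quotient.mk _),
        Ideal.map_isPrime_of_surjective Ideal.Quotient.mk_surjective (by rw [Ideal.mk_ker]; exact hq₂)⟩
      obtain ⟨Ω, _, _, φ₁, φ₂, h1, h2⟩ := exists_compositum (K := K') (A := A₁) q'
      letI : Algebra k Ω := ((algebraMap K' Ω).comp (algebraMap k K')).toAlgebra
      haveI : IsScalarTower k K' Ω := IsScalarTower.of_algebraMap_eq' (R := k) (S := K') (A := Ω) rfl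
      rw [← hx₁, ← pt_lift_eq_of_ker a u₁ φ₁ h1]
      refine prodMul_specializes c₁ c₂ φ₁ φ₂ ?_
      rw [show yM (φ₂.restrictScalars k) ≫ c₂ = gone G (yS k Ω) from section_eq_gone hG a w haw hq₂ hq₂w φ₂ h2,
        gmul_one]
    have s₂ : μ ⤳ x₂ := by
      let q' : PrimeSpectrum A₁ := ⟨q₁.asIdeal.map (Ideal.Quotient.mk _),
        Ideal.map_isPrime_of_surjective Ideal.Quotient.mk_surjective (by rw [Ideal.mk_ker]; exact hq₁)⟩
      obtain ⟨Ω, _, _, φ₂, φ₁, h2, h1⟩ := exists_compositum (K := K') (A := A₂) q'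
      letI : Algebra k Ω := ((algebraMap K' Ω).comp (algebraMap k K')).toAlgebra
      haveI : IsScalarTower k K' Ω := IsScalarTower.of_algebraMap_eq' (R := k) (S := K') (A := Ω) rfl
      rw [← hx₂, ← pt_lift_eq_of_ker a u₂ φ₂ h2]
      refine prodMul_specializes c₁ c₂ φ₁ φ₂ ?_
      rw [show yM (φ₁.restrictScalars k) ≫ c₁ = gone G (yS k Ω) from section_eq_gone hG a w haw hq₁ hq₁w φ₁ h1,
        gone_mul]
    -- now compute in the open subscheme, which is integral over `Spec R`
    have hμ : Points.map prod.fst μ = pt j t := hmax _ (h₁ ▸ s₁.map (Points.continuous_map prod.fst))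
    have hj' : RepWith @IsOpenImmersion (prodChart j K') := repWith_of_isPullback (isPullback_prod_chart j).flip hj
    have hXK : IsAlgSpace (G.left ⨯ yS k K') := isAlgSpace_prod hG (IsAlgSpace.yon_obj _)
    obtain ⟨P, hP, hPμ⟩ := exists_lift_point j μ t hμ
    have : Algebra.IsIntegral R (R ⊗[k] K') := inferInstance
    have inc : ∀ (x : Points (G.left ⨯ yS k K')), Points.map prod.fst x = pt j t → μ ⤳ x → μ = x := by
      intro x hx hs
      obtain ⟨Q, hQ, hQx⟩ := exists_lift_point j x t hx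
      rw [← hPμ, ← hQx] at hs ⊢
      have hle : P ≤ Q :=
        (PrimeSpectrum.le_iff_specializes P Q).2 ((isOpenEmbedding_pt hXK hj').isInducing.specializes_iff.1 hs)
      refine congrArg (pt _) (le_antisymm hle fun z hz => by_contra fun hzP => ?_)
      have hc : Ideal.comap (algebraMap R (R ⊗[k] K')) P.asIdeal =
          Ideal.comap (algebraMap R (R ⊗[k] K')) Q.asIdeal := congrArg PrimeSpectrum.asIdeal (hP.trans hQ.symm)
      exact (Ideal.comap_lt_comap_of_integral_mem_sdiff (R := R) hle ⟨hz, hzP⟩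
        (Algebra.IsIntegral.isIntegral z)).ne hc
    exact (inc x₁ h₁ s₁).symm.trans (inc x₂ h₂ s₂)
  intro L _ _
  have hsub : Subsingleton (PrimeSpectrum (t.asIdeal.ResidueField ⊗[k] K')) := ⟨fun P₁ P₂ => by
    let ζ : yS k t.asIdeal.ResidueField ⟶ G.left := yM (IsScalarTower.toAlgHom k R t.asIdeal.ResidueField) ≫ j
    have : Mono j := mono_of_openImm hj
    have := mono_yM_residue (k := k) t
    have : Mono ζ := mono_comp _ _
    have : Mono (prodChart ζ K') := PullbackCone.mono_fst_of_is_pullback_of_mono (isPullback_prod_chart ζ).isLimit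
    have hfst : ∀ P, Points.map prod.fst (pt (prodChart ζ K') P) = pt j t := fun P => by
      rw [map_fst_pt_prodChart, pt_yM]
      refine congrArg (pt j) (PrimeSpectrum.ext ?_)
      show Ideal.comap (algebraMap R t.asIdeal.ResidueField) _ = t.asIdeal
      have key : ∀ Q : PrimeSpectrum t.asIdeal.ResidueField,
          Ideal.comap (algebraMap R t.asIdeal.ResidueField) Q.asIdeal = t.asIdeal := fun Q => by
        rw [(Ideal.eq_bot_or_top Q.asIdeal).resolve_right Q.isPrime.ne_top]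
        exact Ideal.ker_algebraMap_residueField t.asIdeal
      exact key _
    have h := key _ _ (hfst P₁) (hfst P₂)
    rw [pt, pt, Points.ofPt_eq_map_ofScheme, Points.ofPt_eq_map_ofScheme] at h
    exact (Points.schemeHomeo (specK k _)).injective (injective_points_map_of_mono _ h)⟩
  have : IrreducibleSpace (PrimeSpectrum (K' ⊗[k] t.asIdeal.ResidueField)) := by
    let e := PrimeSpectrum.homeomorphOfRingEquiv
      (Algebra.TensorProduct.comm k K' t.asIdeal.ResidueField).toRingEquiv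
    haveI : Subsingleton (PrimeSpectrum (K' ⊗[k] t.asIdeal.ResidueField)) := e.injective.subsingleton
    haveI : Nontrivial (K' ⊗[k] t.asIdeal.ResidueField) :=
      Algebra.TensorProduct.nontrivial_of_algebraMap_injective_of_isDomain k K' _
        (algebraMap k K').injective (algebraMap k t.asIdeal.ResidueField).injective
    exact (irreducibleSpace_def _).2 ⟨Set.univ_nonempty, Set.subsingleton_univ.isPreirreducible⟩
  have := GeomSep.geometricallyIrreducible_of_isSepClosed (k := k) (R := t.asIdeal.ResidueField) K' L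
  exact GeomSep.irreducibleSpace_of_equiv (Algebra.TensorProduct.comm k t.asIdeal.ResidueField L).toRingEquiv

end Groth.Agent.AlgSpGrp5
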