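import Groth.Agent.AlgSpDec.FiniteQuot
import Groth.Agent.AlgSpDec.FinLocFreeQuot
import Groth.Agent.AlgSpDec.AffineClassQuot
import Groth.Agent.AlgSpDec.LimOpen
import Groth.Agent.AlgSpPts.OpenSub
import Groth.Agent.AlgSpPts.Univ

/-!
# Descending the property of being a scheme along finite locally free surjections
-/

set_option backward.isDefEq.respectTransparency false
set_option backward.isDefEq.respectTransparency.types false

universe u

open CategoryTheory CategoryTheory.Limits AlgebraicGeometry AlgSp Groth.Agent.AlgSpLib Groth.Agent.AlgSpPts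
  Groth.Agent.AlgSpDec

namespace Groth.Agent.AlgSpGrp5

variable {S : Scheme.{u}} {X : Sp S} {U : Over S}

theorem exists_iso_of_finLocFree (a : (yon S).obj U ⟶ X) (hf : RepWith @IsFinite a) (hp : RepWith AlgSpLib.fppf a)
    (hfs : ∀ T : Set U.left, T.Finite → ∃ V : U.left.Opens, IsAffineOpen V ∧ T ⊆ V) :
    ∃ Z : Over S, Nonempty ((yon S).obj Z ≅ X) := by
  let R := hp.rep.pullback a
  let t : R ⟶ U := hp.rep.fst' a
  let s : R ⟶ U := hp.rep.snd a
  have sq : IsPullback ((yon S).map t) ((yon S).map s) a a := hp.rep.isPullback' a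
  obtain ⟨⟨-, hsflat⟩, hslfp⟩ := hp.property_snd a
  have hsf : IsFinite s.left := hf.property a _ _ (hp.rep.isPullback a)
  obtain ⟨G, hU, hR, hgs, hgt, hpU, hpR⟩ := exists_groupoid_over sq
  obtain ⟨GU, GR, pU, pR, gs, gt, ge, gi, gc, h1, h2, h3, h4, h5, h6, h7, h8, h9, h10, h11, h12, h13⟩ := G
  subst hU hR
  obtain rfl : gs = s.left := eq_of_heq hgs
  obtain rfl : gt = t.left := eq_of_heq hgt
  obtain rfl : pU = U.hom := eq_of_heq hpU
  obtain rfl : pR = R.hom := eq_of_heq hpR
  let G : Grpd.GroupoidScheme S :=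
    ⟨_, _, U.hom, R.hom, _, _, ge, gi, gc, h1, h2, h3, h4, h5, h6, h7, h8, h9, h10, h11, h12, h13⟩
  have hfl : Mor2.IsFinLocFree G.s := ⟨hsf, hsflat, hslfp⟩
  have heq : AlgSp.IsEqvRel s t := by
    refine ⟨fun T r r' ht' hs' => ?_, fun T => ⟨fun y => ?_, ?_, ?_⟩⟩
    · exact Over.OverMorphism.ext (rel_ext sq (congrArg Over.Hom.left ht') (congrArg Over.Hom.left hs'))
    · exact exists_rel_lift sq y y rfl
    · rintro y z ⟨r, rfl, rfl⟩
      refine exists_rel_lift sq _ _ ?_
      rw [(yon S).map_comp r t, (yon S).map_comp r s, Category.assoc, Category.assoc, sq.w]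
    · rintro y z w ⟨r, rfl, hr⟩ ⟨r', rfl, rfl⟩
      refine exists_rel_lift sq _ _ ?_
      rw [(yon S).map_comp r t, Category.assoc, sq.w, ← Category.assoc, ← (yon S).map_comp r s, hr,
        (yon S).map_comp r' t, Category.assoc, sq.w, ← Category.assoc, ← (yon S).map_comp r' s]
  obtain ⟨M, m, hm, hmsurj, hpb, -⟩ := FinLocFreeQuot.exists_quotient G hfl heq fun Z _ ⟨z, hz⟩ => by
    obtain ⟨V, hV, hVT⟩ := hfs _ ((IsFinite.finite_preimage_singleton s.left z).image t.left)
    exact ⟨z, hz, V, hV, fun r hr => hVT ⟨r, hr, rfl⟩⟩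
  let m' : U ⟶ M := m
  haveI : Flat m'.left := hm.2.1
  haveI : LocallyOfFinitePresentation m'.left := hm.2.2
  haveI : Surjective m'.left := hmsurj
  haveI : Sheaf.IsLocallySurjective a := isLocallySurjective_of_repWith hp
  haveI : Sheaf.IsLocallySurjective ((yon S).map m') :=
    isLocallySurjective_of_repWith ((repWith_yon_map_iff AlgSpLib.fppf m').2 (fppf_of m'.left))
  haveI : Epi a := (Sheaf.isLocallySurjective_iff_epi a).1 inferInstance
  haveI : Epi ((yon S).map m') := (Sheaf.isLocallySurjective_iff_epi _).1 inferInstance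
  have hpb' : IsPullback ((yon S).map t) ((yon S).map s) ((yon S).map m') ((yon S).map m') :=
    (IsPullback.of_map (Over.forget S) (f := t) (g := s) (h := m') (i := m')
      (Over.OverMorphism.ext hpb.w) hpb).map (yon S)
  exact ⟨M, nonempty_iso_of_same_kernelPair _ _ _ _ hpb' sq⟩

/-- A point all whose preimages lie in one affine open subscheme of a finite locally free cover
lies in an open subscheme. -/
theorem exists_open_subscheme_of_finLocFree_cover (hX : IsAlgSpace X) {Y : Sp S} (p : Y ⟶ X)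
    (hpf : RepWith @IsFinite p) (hp : RepWith AlgSpLib.fppf p) {W : Over S} [IsAffine W.left]
    (jW : (yon S).obj W ⟶ Y) (hjW : RepWith @IsOpenImmersion jW) (x : Points X)
    (hx : Points.map p ⁻¹' {x} ⊆ Set.range (Points.map jW)) :
    ∃ (T : Over S) (j : (yon S).obj T ⟶ X),
      RepWith @IsOpenImmersion j ∧ x ∈ Set.range (Points.map j) := by
  have hY : IsAlgSpace Y := isAlgSpace_of_representable p hp.rep hX
  have hcl : IsClosedMap (Points.map p) :=
    isClosedMap_map (repWith_mono (fun A B g (hg : IsFinite g) => (inferInstance : UniversallyClosed g)) _ hpf)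
  obtain ⟨O, j, hO, hj, hrange⟩ := exists_open_subspace hX
    (W := (Points.map p '' (Set.range (Points.map jW))ᶜ)ᶜ)
    (hcl _ (isOpen_range_openImm hY hjW).isClosed_compl).isOpen_compl
  have sq := IsPullback.of_hasPullback j p
  have hj' : RepWith @IsOpenImmersion (pullback.snd j p) := repWith_snd p hj
  have hsub : ∀ z, Points.map (pullback.snd j p) z ∈ Set.range (Points.map jW) := fun z => by
    by_contra hz
    have h : Points.map p (Points.map (pullback.snd j p) z) ∈ (Points.map p '' (Set.range (Points.map jW))ᶜ)ᶜ :=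
      hrange.subset ⟨Points.map (pullback.fst j p) z, by rw [← Points.map_comp, sq.w, Points.map_comp]⟩
    exact h ⟨_, hz, rfl⟩
  -- the preimage is an open subscheme `U` of `W`
  let U := hj'.rep.pullback jW
  let i : U ⟶ W := hj'.rep.snd jW
  haveI : IsOpenImmersion i.left := hj'.property_snd jW
  have sqU : IsPullback (hj'.rep.fst jW) ((yon S).map i) (pullback.snd j p) jW := hj'.rep.isPullback jW
  haveI : IsIso (hj'.rep.fst jW) :=
    isIso_of_openImm_surjective (isAlgSpace_pullback hO hY hX _ _) (repWith_of_isPullback sqU.flip hjW) fun z => by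
      obtain ⟨w, hw⟩ := hsub z
      obtain ⟨v, hv, -⟩ := exists_point_of_isPullback sqU hw.symm
      exact ⟨v, hv⟩
  let a : (yon S).obj U ⟶ O := hj'.rep.fst jW ≫ pullback.fst j p
  have hfs : ∀ T : Set U.left, T.Finite → ∃ V : U.left.Opens, IsAffineOpen V ∧ T ⊆ V := fun T hT => by
    obtain ⟨f, hTf, hfU⟩ := GrpdLib.exists_basicOpen_of_finite (isAffineOpen_top W.left) (hT.image i.left)
      i.left.opensRange (Set.subset_univ _) (Set.image_subset_range _ _)
    refine ⟨i.left ⁻¹ᵁ W.left.basicOpen f, ?_, fun x hx => hTf ⟨x, hx, rfl⟩⟩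
    refine ((isAffineOpen_top W.left).basicOpen f).preimage_of_isOpenImmersion i.left ?_
    exact hfU
  obtain ⟨Z, ⟨e⟩⟩ := exists_iso_of_finLocFree a
    (repWith_comp (repWith_of_isIso _ _) (repWith_of_isPullback sq.flip hpf))
    (repWith_comp (repWith_of_isIso _ _) (repWith_of_isPullback sq.flip hp)) hfs
  have hx' : x ∈ (Points.map p '' (Set.range (Points.map jW))ᶜ)ᶜ := by
    rintro ⟨y, hy, hyx⟩
    exact hy (hx hyx)
  obtain ⟨z, hz⟩ := hrange.symm.subset hx'
  exact ⟨Z, e.hom ≫ j, repWith_comp (repWith_of_isIso _ e.hom) hj,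
    Points.map e.inv z, by rw [← Points.map_comp, e.inv_hom_id_assoc, hz]⟩

end Groth.Agent.AlgSpGrp5
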