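import Groth.Agent.AlgSpDec.MonoRep
import Groth.Agent.AlgSpDec.LimOpen
import Groth.Agent.AlgSpPts.Field
import Mathlib.CategoryTheory.Monoidal.Cartesian.Grp

/-!
# Affine test objects over a field, and the group law on points
-/

set_option backward.isDefEq.respectTransparency false
set_option backward.isDefEq.respectTransparency.types false

universe u

open CategoryTheory CategoryTheory.Limits AlgebraicGeometry AlgSp Groth.Agent.AlgSpLib Groth.Agent.AlgSpPts
  Groth.Agent.AlgSpDec TensorProduct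

namespace Groth.Agent.AlgSpGrp5

variable {k : Type u} [Field k]

/-- The base. -/
noncomputable abbrev base (k : Type u) [Field k] : Scheme.{u} := Spec (CommRingCat.of k)

/-- The spectrum of an algebra, over the base. -/
noncomputable abbrev specK (k : Type u) [Field k] (R : Type u) [CommRing R] [Algebra k R] : Over (base k) :=
  Over.mk (Spec.map (CommRingCat.ofHom (algebraMap k R)))

/-- The map of spectra of an algebra homomorphism. -/
noncomputable def specMap {R R' : Type u} [CommRing R] [Algebra k R] [CommRing R'] [Algebra k R'] (f : R →ₐ[k] R') :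
    specK k R' ⟶ specK k R :=
  Over.homMk (Spec.map (CommRingCat.ofHom f.toRingHom))
    ((Spec.map_comp _ _).symm.trans (congrArg (fun g => Spec.map (CommRingCat.ofHom g)) f.comp_algebraMap))

/-- The sheaf of the spectrum of an algebra. -/
noncomputable abbrev yS (k : Type u) [Field k] (R : Type u) [CommRing R] [Algebra k R] : Sp (base k) :=
  (yon (base k)).obj (specK k R)

/-- The map of sheaves of an algebra homomorphism. -/
noncomputable abbrev yM {R R' : Type u} [CommRing R] [Algebra k R] [CommRing R'] [Algebra k R']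
    (f : R →ₐ[k] R') : yS k R' ⟶ yS k R :=
  (yon (base k)).map (specMap f)

/-- The point of a sheaf given by a prime of an algebra mapping to it. -/
noncomputable abbrev pt {R : Type u} [CommRing R] [Algebra k R] {F : Sp (base k)} (g : yS k R ⟶ F)
    (p : PrimeSpectrum R) : Points F :=
  Points.ofPt g (p : ↥(specK k R).left)

section

variable {R R' R'' : Type u} [CommRing R] [Algebra k R] [CommRing R'] [Algebra k R'] [CommRing R''] [Algebra k R'']

theorem specMap_comp (f : R →ₐ[k] R') (g : R' →ₐ[k] R'') : specMap (g.comp f) = specMap g ≫ specMap f :=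
  Over.OverMorphism.ext ((congrArg Spec.map (CommRingCat.ofHom_comp f.toRingHom g.toRingHom)).trans (Spec.map_comp _ _))

theorem yM_comp (f : R →ₐ[k] R') (g : R' →ₐ[k] R'') : yM (g.comp f) = yM g ≫ yM f := by
  rw [yM, specMap_comp, Functor.map_comp]

theorem pt_yM {F : Sp (base k)} (f : R →ₐ[k] R') (g : yS k R ⟶ F) (p : PrimeSpectrum R') :
    pt (yM f ≫ g) p = pt g (PrimeSpectrum.comap f.toRingHom p) :=
  ofPt_comp _ _ _

theorem map_pt {F F' : Sp (base k)} (g : yS k R ⟶ F) (h : F ⟶ F') (p : PrimeSpectrum R) :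
    Points.map h (pt g p) = pt (g ≫ h) p := rfl

theorem pt_specializes {F : Sp (base k)} (g : yS k R ⟶ F) {p q : PrimeSpectrum R} (h : p ≤ q) :
    pt g p ⤳ pt g q :=
  ((PrimeSpectrum.le_iff_specializes p q).1 h).map (Points.continuous_ofPt g)

end

/-- The final object. -/
noncomputable abbrev isTerm (k : Type u) [Field k] :
    IsTerminal ((yon (base k)).obj (Over.mk (𝟙 (base k)))) :=
  isTerminalYon _

theorem isPullback_specK (R R' : Type u) [CommRing R] [Algebra k R] [CommRing R'] [Algebra k R'] :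
    IsPullback (yM (Algebra.TensorProduct.includeLeft : R →ₐ[k] R ⊗[k] R'))
      (yM (Algebra.TensorProduct.includeRight : R' →ₐ[k] R ⊗[k] R'))
      ((isTerm k).from (yS k R)) ((isTerm k).from (yS k R')) := by
  have h1 : IsPullback (specMap (Algebra.TensorProduct.includeLeft : R →ₐ[k] R ⊗[k] R'))
      (specMap (Algebra.TensorProduct.includeRight : R' →ₐ[k] R ⊗[k] R'))
      (Over.mkIdTerminal.from (specK k R)) (Over.mkIdTerminal.from (specK k R')) := by
    refine IsPullback.of_map (Over.forget _) (Over.mkIdTerminal.hom_ext _ _) ?_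
    refine (isPullback_SpecMap_of_isPushout _ _ _ _ (CommRingCat.isPushout_tensorProduct k R R')).of_iso
      (Iso.refl _) (Iso.refl _) (Iso.refl _) (Iso.refl _) (by simp; rfl) (by simp; rfl) ?_ ?_
    · simp only [Iso.refl_hom, Category.comp_id, Category.id_comp, Over.forget_map]
      exact (Over.w (Over.mkIdTerminal.from (specK k R))).symm.trans (Category.comp_id _)
    · simp only [Iso.refl_hom, Category.comp_id, Category.id_comp, Over.forget_map]
      exact (Over.w (Over.mkIdTerminal.from (specK k R'))).symm.trans (Category.comp_id _)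
  have h2 := h1.map (yon (base k))
  exact h2.of_iso (Iso.refl _) (Iso.refl _) (Iso.refl _) (Iso.refl _) (by simp) (by simp)
    ((isTerm k).hom_ext _ _) ((isTerm k).hom_ext _ _)

theorem hom_ext_tensor {R R' : Type u} [CommRing R] [Algebra k R] [CommRing R'] [Algebra k R'] {P : Sp (base k)}
    {f g : P ⟶ yS k (R ⊗[k] R')}
    (h₁ : f ≫ yM (Algebra.TensorProduct.includeLeft : R →ₐ[k] R ⊗[k] R') =
      g ≫ yM (Algebra.TensorProduct.includeLeft : R →ₐ[k] R ⊗[k] R'))
    (h₂ : f ≫ yM (Algebra.TensorProduct.includeRight : R' →ₐ[k] R ⊗[k] R') =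
      g ≫ yM (Algebra.TensorProduct.includeRight : R' →ₐ[k] R ⊗[k] R')) : f = g :=
  (isPullback_specK R R').hom_ext h₁ h₂

/-- Base change of a map from an affine scheme along an affine scheme. -/
theorem isPullback_prod_chart {X : Sp (base k)} {R L : Type u} [CommRing R] [Algebra k R] [CommRing L]
    [Algebra k L] (a : yS k R ⟶ X) :
    IsPullback (prod.lift (yM (Algebra.TensorProduct.includeLeft : R →ₐ[k] R ⊗[k] L) ≫ a)
        (yM (Algebra.TensorProduct.includeRight : L →ₐ[k] R ⊗[k] L)))
      (yM (Algebra.TensorProduct.includeLeft : R →ₐ[k] R ⊗[k] L))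
      (prod.fst : X ⨯ yS k L ⟶ X) a := by
  refine ⟨⟨prod.lift_fst _ _⟩, ⟨PullbackCone.IsLimit.mk _
    (fun s => (isPullback_specK R L).lift s.snd (s.fst ≫ prod.snd) ((isTerm k).hom_ext _ _))
    (fun s => ?_) (fun s => (isPullback_specK R L).lift_fst _ _ _) (fun s m hm hm' => ?_)⟩⟩
  · apply Limits.prod.hom_ext
    · rw [Category.assoc, prod.lift_fst, IsPullback.lift_fst_assoc]
      exact s.condition.symm
    · rw [Category.assoc, prod.lift_snd, IsPullback.lift_snd]
  · refine hom_ext_tensor (hm'.trans ((isPullback_specK R L).lift_fst _ _ _).symm) ?_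
    rw [IsPullback.lift_snd, ← hm, Category.assoc, prod.lift_snd]

theorem isPullback_prod_map {X Z Y : Sp (base k)} (a : Z ⟶ X) :
    IsPullback (prod.map a (𝟙 Y)) (prod.fst : Z ⨯ Y ⟶ Z) (prod.fst : X ⨯ Y ⟶ X) a := by
  refine ⟨⟨prod.map_fst _ _⟩, ⟨PullbackCone.IsLimit.mk _ (fun s => prod.lift s.snd (s.fst ≫ prod.snd))
    (fun s => ?_) (fun s => prod.lift_fst _ _) (fun s m hm hm' => ?_)⟩⟩
  · apply Limits.prod.hom_ext
    · rw [prod.lift_map, prod.lift_fst]; exact s.condition.symm
    · rw [prod.lift_map, prod.lift_snd, Category.comp_id]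
  · apply Limits.prod.hom_ext
    · rw [prod.lift_fst, hm']
    · rw [prod.lift_snd, ← hm, Category.assoc, prod.map_snd, Category.comp_id]

theorem exists_specK_iso (U : Over (base k)) [IsAffine U.left] :
    ∃ (R : Type u) (_ : CommRing R) (_ : Algebra k R), Nonempty (specK k R ≅ U) := by
  let φ : CommRingCat.of k ⟶ Γ(U.left, ⊤) := Spec.preimage (U.left.isoSpec.inv ≫ U.hom)
  letI := φ.hom.toAlgebra
  refine ⟨Γ(U.left, ⊤), inferInstance, φ.hom.toAlgebra, ⟨Over.isoMk U.left.isoSpec.symm ?_⟩⟩
  show U.left.isoSpec.inv ≫ U.hom = Spec.map (CommRingCat.ofHom (algebraMap k Γ(U.left, ⊤)))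
  exact (Spec.map_preimage _).symm

theorem exists_chart_at {X : Sp (base k)} (hX : IsAlgSpace X) (x : Points X) :
    ∃ (R : Type u) (_ : CommRing R) (_ : Algebra k R) (a : yS k R ⟶ X) (p : PrimeSpectrum R),
      RepWith @Etale a ∧ pt a p = x := by
  obtain ⟨U, a, v, hU, ha, rfl⟩ := exists_affine_chart_at hX x
  obtain ⟨R, _, _, ⟨e⟩⟩ := exists_specK_iso U
  refine ⟨R, inferInstance, inferInstance, (yon (base k)).map e.hom ≫ a, e.inv.left v,
    repWith_comp (repWith_of_isIso _ _) ha, ?_⟩
  show Points.ofPt ((yon (base k)).map e.hom ≫ a) _ = _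
  rw [ofPt_comp]
  congr 1
  exact (Scheme.Hom.comp_apply _ _ _).symm.trans (by rw [← Over.comp_left, e.inv_hom_id]; rfl)

theorem exists_open_affine_at {X : Sp (base k)} {T : Over (base k)} {j : (yon (base k)).obj T ⟶ X}
    (hj : RepWith @IsOpenImmersion j) {x : Points X} (hx : x ∈ Set.range (Points.map j)) :
    ∃ (R : Type u) (_ : CommRing R) (_ : Algebra k R) (i : yS k R ⟶ X) (p : PrimeSpectrum R),
      RepWith @IsOpenImmersion i ∧ pt i p = x := by
  obtain ⟨z, rfl⟩ := hx
  obtain ⟨v, rfl⟩ := (Points.schemeHomeo T).surjective z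
  obtain ⟨W, hW, hvW, -⟩ := exists_isAffineOpen_mem_and_subset (U := (⊤ : T.left.Opens)) (x := v) trivial
  let ι : Over.mk (W.ι ≫ T.hom) ⟶ T := Over.homMk W.ι rfl
  haveI : IsAffine (Over.mk (W.ι ≫ T.hom)).left := hW
  obtain ⟨R, _, _, ⟨e⟩⟩ := exists_specK_iso (Over.mk (W.ι ≫ T.hom))
  refine ⟨R, inferInstance, inferInstance, (yon (base k)).map (e.hom ≫ ι) ≫ j, e.inv.left ⟨v, hvW⟩, ?_, ?_⟩
  · rw [Functor.map_comp]
    exact repWith_comp (repWith_comp (repWith_of_isIso _ _)
      ((repWith_yon_map_iff _ ι).2 (inferInstanceAs (IsOpenImmersion W.ι)))) hj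
  · show Points.ofPt _ _ = Points.map j (Points.ofScheme T v)
    rw [ofPt_comp, ← Points.ofPt_eq_map_ofScheme]
    congr 1
    have h : e.inv.left ≫ (e.hom ≫ ι).left = W.ι := by
      rw [← Over.comp_left, e.inv_hom_id_assoc]; rfl
    exact (Scheme.Hom.comp_apply _ _ _).symm.trans (by rw [h]; rfl)

theorem exists_fieldRep {X : Sp (base k)} (hX : IsAlgSpace X) (x : Points X) :
    ∃ (L : Type u) (_ : Field L) (_ : Algebra k L) (g : yS k L ⟶ X), ∀ q, pt g q = x := by
  obtain ⟨R, _, _, a, p, -, rfl⟩ := exists_chart_at hX x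
  refine ⟨p.asIdeal.ResidueField, inferInstance, inferInstance,
    yM (IsScalarTower.toAlgHom k R p.asIdeal.ResidueField) ≫ a, fun q => ?_⟩
  rw [pt_yM]
  refine congrArg (pt a) (PrimeSpectrum.ext ?_)
  show q.asIdeal.comap (algebraMap R p.asIdeal.ResidueField) = p.asIdeal
  rw [(Ideal.eq_bot_or_top q.asIdeal).resolve_right q.isPrime.ne_top]
  exact Ideal.ker_algebraMap_residueField p.asIdeal

end Groth.Agent.AlgSpGrp5
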