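import Groth.Prelude.Def_AlgSpGpd
import Groth.Agent.AlgSpGrp5.SpecPts
import Mathlib.CategoryTheory.Monoidal.Cartesian.Grp

/-!
# The group law on maps into a group space over a field
-/

set_option backward.isDefEq.respectTransparency false
set_option backward.isDefEq.respectTransparency.types false

universe u

open CategoryTheory CategoryTheory.Limits AlgebraicGeometry AlgSp Groth.Agent.AlgSpLib Groth.Agent.AlgSpPts
  MonoidalCategory MonObj

namespace Groth.Agent.AlgSpGrp5

variable {k : Type u} [Field k] {G : Over ((AlgSp.yon (base k)).obj (Over.mk (𝟙 _)))} [GrpObj G]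

/-- A map into the group, as a map over the final object. -/
noncomputable def up {P : Sp (base k)} (a : P ⟶ G.left) : Over.mk ((isTerm k).from P) ⟶ G :=
  Over.homMk a ((isTerm k).hom_ext _ _)

/-- The product of two maps into the group. -/
noncomputable def gmul {P : Sp (base k)} (a b : P ⟶ G.left) : P ⟶ G.left := (up a * up b).left

/-- The inverse of a map into the group. -/
noncomputable def ginv {P : Sp (base k)} (a : P ⟶ G.left) : P ⟶ G.left := (up a)⁻¹.left

/-- The unit map into the group. -/
noncomputable def gone (G : Over ((AlgSp.yon (base k)).obj (Over.mk (𝟙 _)))) [GrpObj G] (P : Sp (base k)) :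
    P ⟶ G.left := (1 : Over.mk ((isTerm k).from P) ⟶ G).left

theorem up_left {P : Sp (base k)} (a : Over.mk ((isTerm k).from P) ⟶ G) : up a.left = a :=
  Over.OverMorphism.ext rfl

theorem gmul_assoc {P : Sp (base k)} (a b c : P ⟶ G.left) : gmul (gmul a b) c = gmul a (gmul b c) := by
  simp only [gmul, up_left, _root_.mul_assoc]

theorem gone_mul {P : Sp (base k)} (a : P ⟶ G.left) : gmul (gone G P) a = a := by
  simp only [gmul, gone, up_left, _root_.one_mul]; rfl

theorem gmul_one {P : Sp (base k)} (a : P ⟶ G.left) : gmul a (gone G P) = a := by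
  simp only [gmul, gone, up_left, _root_.mul_one]; rfl

theorem ginv_mul {P : Sp (base k)} (a : P ⟶ G.left) : gmul (ginv a) a = gone G P := by
  simp only [gmul, ginv, gone, up_left, inv_mul_cancel]

theorem gmul_inv {P : Sp (base k)} (a : P ⟶ G.left) : gmul a (ginv a) = gone G P := by
  simp only [gmul, ginv, gone, up_left, mul_inv_cancel]

theorem comp_gmul {P Q : Sp (base k)} (f : Q ⟶ P) (a b : P ⟶ G.left) :
    f ≫ gmul a b = gmul (f ≫ a) (f ≫ b) := by
  let f' : Over.mk ((isTerm k).from Q) ⟶ Over.mk ((isTerm k).from P) := Over.homMk f ((isTerm k).hom_ext _ _)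
  have h : ∀ c : P ⟶ G.left, up (f ≫ c) = f' ≫ up c := fun c => Over.OverMorphism.ext rfl
  show _ = (up (f ≫ a) * up (f ≫ b)).left
  rw [h, h, ← MonObj.comp_mul]
  rfl

theorem comp_ginv {P Q : Sp (base k)} (f : Q ⟶ P) (a : P ⟶ G.left) : f ≫ ginv a = ginv (f ≫ a) := by
  let f' : Over.mk ((isTerm k).from Q) ⟶ Over.mk ((isTerm k).from P) := Over.homMk f ((isTerm k).hom_ext _ _)
  have h : up (f ≫ a) = f' ≫ up a := Over.OverMorphism.ext rfl
  show _ = (up (f ≫ a))⁻¹.left
  rw [h, ← GrpObj.comp_inv]
  rfl

theorem comp_gone {P Q : Sp (base k)} (f : Q ⟶ P) : f ≫ gone G P = gone G Q := by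
  let f' : Over.mk ((isTerm k).from Q) ⟶ Over.mk ((isTerm k).from P) := Over.homMk f ((isTerm k).hom_ext _ _)
  show _ = (1 : Over.mk ((isTerm k).from Q) ⟶ G).left
  rw [← MonObj.comp_one f']
  rfl

/-- Left translation by a section. -/
noncomputable def translate {P : Sp (base k)} (g : P ⟶ G.left) : G.left ⨯ P ≅ G.left ⨯ P where
  hom := prod.lift (gmul (prod.snd ≫ g) prod.fst) prod.snd
  inv := prod.lift (gmul (prod.snd ≫ ginv g) prod.fst) prod.snd
  hom_inv_id := by
    apply Limits.prod.hom_ext
    · rw [Category.assoc, prod.lift_fst, comp_gmul, prod.lift_snd_assoc, prod.lift_fst, ← gmul_assoc,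
        ← comp_gmul, ginv_mul, comp_gone, gone_mul, Category.id_comp]
    · rw [Category.assoc, prod.lift_snd, prod.lift_snd, Category.id_comp]
  inv_hom_id := by
    apply Limits.prod.hom_ext
    · rw [Category.assoc, prod.lift_fst, comp_gmul, prod.lift_snd_assoc, prod.lift_fst, ← gmul_assoc,
        ← comp_gmul, gmul_inv, comp_gone, gone_mul, Category.id_comp]
    · rw [Category.assoc, prod.lift_snd, prod.lift_snd, Category.id_comp]

theorem lift_translate {P Q : Sp (base k)} (g : P ⟶ G.left) (a : Q ⟶ G.left) (b : Q ⟶ P) :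
    prod.lift a b ≫ (translate g).hom = prod.lift (gmul (b ≫ g) a) b := by
  apply Limits.prod.hom_ext <;> simp [translate, comp_gmul]

end Groth.Agent.AlgSpGrp5
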