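import Groth.Agent.AlgSpGrp5.SpecPts
import Groth.Agent.AlgSpDec.LimScheme
import Groth.Agent.AlgSpDec.PointsSpectral
import Mathlib.Algebra.Category.Ring.FilteredColimits
import Mathlib.CategoryTheory.Limits.Types.Filtered
import Mathlib.RingTheory.Adjoin.FG

/-!
# An affine open of a space over a field descends to a finitely generated subalgebra
-/

set_option backward.isDefEq.respectTransparency false
set_option backward.isDefEq.respectTransparency.types false

universe u

open CategoryTheory CategoryTheory.Limits AlgebraicGeometry AlgSp Groth.Agent.AlgSpLib Groth.Agent.AlgSpPts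
  Groth.Agent.AlgSpDec Opposite

namespace Groth.Agent.AlgSpGrp5

variable (k : Type u) [Field k] (K : Type u) [CommRing K] [Algebra k K]

/-- The finitely generated subalgebras. -/
abbrev FgSub : Type u := {A : Subalgebra k K // A.FG}

instance : IsDirectedOrder (FgSub k K) :=
  ⟨fun A B => ⟨⟨A.1 ⊔ B.1, A.2.sup B.2⟩, (le_sup_left : A.1 ≤ A.1 ⊔ B.1), (le_sup_right : B.1 ≤ A.1 ⊔ B.1)⟩⟩

instance : Nonempty (FgSub k K) := ⟨⟨⊥, Subalgebra.fg_bot⟩⟩

/-- The finitely generated subalgebras as a diagram of rings. -/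
def fgRings : FgSub k K ⥤ CommRingCat.{u} where
  obj A := CommRingCat.of A.1
  map {A B} h := CommRingCat.ofHom (Subalgebra.inclusion (leOfHom h : A.1 ≤ B.1)).toRingHom
  map_id A := rfl
  map_comp f g := rfl

/-- The whole algebra, under its finitely generated subalgebras. -/
def fgCocone : Cocone (fgRings k K) where
  pt := CommRingCat.of K
  ι := { app := fun A => CommRingCat.ofHom A.1.val.toRingHom, naturality := fun A B h => rfl }

theorem nonempty_isColimit_fgCocone : Nonempty (IsColimit (fgCocone k K)) := by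
  haveI : IsFiltered (FgSub k K) := inferInstance
  haveI : ReflectsColimit (fgRings k K) (forget CommRingCat.{u}) :=
    reflectsColimit_of_reflectsIsomorphisms _ _
  refine ⟨isColimitOfReflects (forget CommRingCat.{u}) ?_⟩
  refine Types.FilteredColimit.isColimitOf _ _ (fun x => ?_) fun i j xi xj h => ?_
  · exact ⟨⟨Algebra.adjoin k {(x : K)}, ⟨{(x : K)}, by simp⟩⟩, ⟨(x : K), Algebra.subset_adjoin rfl⟩, rfl⟩
  · exact ⟨⟨i.1 ⊔ j.1, i.2.sup j.2⟩, homOfLE (le_sup_left : i.1 ≤ i.1 ⊔ j.1),
      homOfLE (le_sup_right : j.1 ≤ i.1 ⊔ j.1), Subtype.ext h⟩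

/-- The spectra of the finitely generated subalgebras. -/
noncomputable def fgSpecs : (FgSub k K)ᵒᵖ ⥤ Over (base k) where
  obj A := specK k A.unop.1
  map {A B} h := specMap (Subalgebra.inclusion (leOfHom h.unop : B.unop.1 ≤ A.unop.1))
  map_id A := Over.OverMorphism.ext (Spec.map_id _)
  map_comp {A B C} f g :=
    (congrArg specMap (AlgHom.ext fun _ => rfl :
      Subalgebra.inclusion (leOfHom (f ≫ g).unop : C.unop.1 ≤ A.unop.1) =
        (Subalgebra.inclusion (leOfHom f.unop : B.unop.1 ≤ A.unop.1)).comp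
          (Subalgebra.inclusion (leOfHom g.unop : C.unop.1 ≤ B.unop.1)))).trans (specMap_comp _ _)

/-- The spectrum of the algebra over those of its finitely generated subalgebras. -/
noncomputable def fgCone : Cone (fgSpecs k K) where
  pt := specK k K
  π :=
    { app := fun A => specMap A.unop.1.val
      naturality := fun A B h => by
        dsimp
        rw [Category.id_comp]
        exact specMap_comp (Subalgebra.inclusion (leOfHom h.unop : B.unop.1 ≤ A.unop.1)) A.unop.1.val }

theorem nonempty_isLimit_fgCone : Nonempty (IsLimit (fgCone k K)) := by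
  obtain ⟨hc⟩ := nonempty_isColimit_fgCocone k K
  have : IsCofiltered (FgSub k K)ᵒᵖ := inferInstance
  have : IsConnected (FgSub k K)ᵒᵖ := IsCofiltered.isConnected _
  have h : IsLimit (Scheme.Spec.mapCone (fgCocone k K).op) := isLimitOfPreserves Scheme.Spec hc.op
  exact ⟨isLimitOfReflects (Over.forget (base k)) (IsLimit.ofIsoLimit h (Cone.ext (Iso.refl _)))⟩

variable {k K}

theorem isPullback_prod_map_snd {Q Y Y' : Sp (base k)} (f : Y' ⟶ Y) :
    IsPullback (prod.map (𝟙 Q) f) (prod.snd : Q ⨯ Y' ⟶ Y') (prod.snd : Q ⨯ Y ⟶ Y) f := by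
  refine ⟨⟨prod.map_snd _ _⟩, ⟨PullbackCone.IsLimit.mk _ (fun s => prod.lift (s.fst ≫ prod.fst) s.snd)
    (fun s => ?_) (fun s => prod.lift_snd _ _) (fun s m hm hm' => ?_)⟩⟩
  · apply Limits.prod.hom_ext
    · rw [prod.lift_map, prod.lift_fst, Category.comp_id]
    · rw [prod.lift_map, prod.lift_snd]; exact s.condition.symm
  · apply Limits.prod.hom_ext
    · rw [prod.lift_fst, ← hm, Category.assoc, prod.map_fst, Category.comp_id]
    · rw [prod.lift_snd, hm']

theorem isPullback_prod_fst {Q : Sp (base k)} (Y : Sp (base k)) :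
    IsPullback (prod.snd : Q ⨯ Y ⟶ Y) (prod.fst : Q ⨯ Y ⟶ Q) ((isTerm k).from Y) ((isTerm k).from Q) :=
  ⟨⟨(isTerm k).hom_ext _ _⟩, ⟨PullbackCone.IsLimit.mk _ (fun s => prod.lift s.snd s.fst)
    (fun s => prod.lift_snd _ _) (fun s => prod.lift_fst _ _) (fun s m hm hm' => Limits.prod.hom_ext
      (by rw [prod.lift_fst, hm']) (by rw [prod.lift_snd, hm]))⟩⟩

theorem exists_qc_open_containing {X : Sp (base k)} (hX : IsAlgSpace X) {C : Set (Points X)} (hC : IsCompact C) :
    ∃ (Q : Sp (base k)) (jQ : Q ⟶ X), IsAlgSpace Q ∧ RepWith @IsOpenImmersion jQ ∧ IsQuasiCompactSp Q ∧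
      C ⊆ Set.range (Points.map jQ) := by
  choose U a u hU ha hu using fun x : Points X => exists_affine_chart_at hX x
  obtain ⟨s, hs⟩ := hC.elim_finite_subcover (fun x => Set.range (Points.ofPt (a x)))
    (fun x => (isOpenMap_ofPt (ha x)).isOpen_range) fun x _ => Set.mem_iUnion.2 ⟨x, u x, hu x⟩
  obtain ⟨Q, jQ, hQ, hjQ, hr⟩ := exists_open_subspace hX (W := ⋃ x ∈ s, Set.range (Points.ofPt (a x)))
    (isOpen_biUnion fun x _ => (isOpenMap_ofPt (ha x)).isOpen_range)
  refine ⟨Q, jQ, hQ, hjQ, (isQuasiCompactSp_iff hQ).2 ⟨?_⟩, hr ▸ hs⟩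
  refine (isOpenEmbedding_map' hX hjQ).isInducing.isCompact_iff.2 ?_
  rw [Set.image_univ, hr]
  refine s.finite_toSet.isCompact_biUnion fun x _ => ?_
  have : IsAffine (U x).left := hU x
  exact isCompact_range (Points.continuous_ofPt (a x))

theorem exists_stage {X : Sp (base k)} (hX : IsAlgSpace X) (hqs : IsQuasiSeparatedSp X) {W : Over (base k)}
    [IsAffine W.left] (jW : (yon (base k)).obj W ⟶ X ⨯ yS k K) (hjW : RepWith @IsOpenImmersion jW) :
    ∃ (A : Subalgebra k K) (_ : A.FG) (W' : Over (base k)) (j' : (yon (base k)).obj W' ⟶ X ⨯ yS k A),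
      IsAffine W'.left ∧ RepWith @IsOpenImmersion j' ∧
      ∀ w, Points.map (prod.map (𝟙 X) (yM A.val)) (Points.ofPt jW w) ∈ Set.range (Points.map j') := by
  obtain ⟨Q, jQ, hQ, hjQ, hQqc, hCQ⟩ := exists_qc_open_containing hX
    (isCompact_range (Points.continuous_ofPt (jW ≫ prod.fst)))
  have hQqs : IsQuasiSeparatedSp Q := by
    have := mono_of_openImm hjQ
    rw [isQuasiSeparatedSp_iff_mor, (isTerminalYon (base k)).hom_ext ((isTerminalYon (base k)).from Q)
      (jQ ≫ (isTerminalYon (base k)).from _)]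
    exact isQuasiSeparatedMor_comp (repWith_of_isIso _ _) ((isQuasiSeparatedSp_iff_mor _).1 hqs)
  let D : (FgSub k K)ᵒᵖ ⥤ Sp (base k) :=
    { obj := fun A => Q ⨯ (yon (base k)).obj ((fgSpecs k K).obj A)
      map := fun f => prod.map (𝟙 Q) ((yon (base k)).map ((fgSpecs k K).map f))
      map_id := fun A => by
        rw [CategoryTheory.Functor.map_id, CategoryTheory.Functor.map_id]; exact prod.map_id_id
      map_comp := fun f g => by
        rw [Functor.map_comp, Functor.map_comp, prod.map_map, Category.id_comp] }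
  let c : Cone D :=
    { pt := Q ⨯ yS k K
      π :=
        { app := fun A => prod.map (𝟙 Q) ((yon (base k)).map ((fgCone k K).π.app A))
          naturality := fun A B f => by
            simp only [Functor.const_obj_map, Category.id_comp, D]
            rw [prod.map_map, Category.id_comp, ← Functor.map_comp, (fgCone k K).w f]
            rfl } }
  obtain ⟨h₀⟩ := nonempty_isLimit_fgCone k K
  have hy : IsLimit ((yon (base k)).mapCone (fgCone k K)) := isLimitOfPreserves _ h₀
  let cs : Cone D → Cone (fgSpecs k K ⋙ yon (base k)) := fun s =>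
    { pt := s.pt
      π :=
        { app := fun A => s.π.app A ≫ prod.snd
          naturality := fun A B f => by
            simp only [Functor.const_obj_map, Functor.comp_map]
            refine (Category.id_comp _).trans ?_
            rw [← s.w f, Category.assoc, Category.assoc]
            exact congrArg (s.π.app A ≫ ·) (prod.map_snd _ _) } }
  obtain ⟨A₀⟩ : Nonempty ((FgSub k K)ᵒᵖ) := ⟨op ⟨⊥, Subalgebra.fg_bot⟩⟩
  have hconst : ∀ (s : Cone D) A, s.π.app A ≫ prod.fst = s.π.app A₀ ≫ prod.fst := fun s A => by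
    obtain ⟨l, u, v, -⟩ := IsCofilteredOrEmpty.cone_objs A A₀
    rw [← s.w u, ← s.w v]
    simp [D]
  let hc : IsLimit c :=
    { lift := fun s => prod.lift (s.π.app A₀ ≫ prod.fst) (hy.lift (cs s))
      fac := fun s A => by
        apply Limits.prod.hom_ext
        · simp only [c, prod.lift_map, prod.lift_fst, Category.comp_id, Category.assoc]
          exact (hconst s A).symm
        · simp only [c, prod.lift_map, prod.lift_snd, Category.assoc]
          exact hy.fac (cs s) A
      uniq := fun s m hm => by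
        apply Limits.prod.hom_ext
        · rw [prod.lift_fst, ← hm A₀]
          simp [c]
        · rw [prod.lift_snd]
          refine hy.uniq (cs s) _ fun A => ?_
          show (m ≫ prod.snd) ≫ _ = s.π.app A ≫ prod.snd
          rw [← hm A]
          simp [c] }
  have hDa : ∀ (A B) (f : A ⟶ B), IsAffineMor (D.map f) := fun A B f =>
    isAffineMor_of_repWith le_rfl (repWith_of_isPullback (isPullback_prod_map_snd _).flip
      ((repWith_yon_map_iff @IsAffineHom _).2 (inferInstanceAs
        (IsAffineHom (Spec.map (CommRingCat.ofHom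
          (Subalgebra.inclusion (leOfHom f.unop : B.unop.1 ≤ A.unop.1)).toRingHom))))))
  have hfst : ∀ A, RepWith @IsAffineHom (prod.fst : D.obj A ⟶ Q) := fun A =>
    repWith_of_isPullback (isPullback_prod_fst _) (by
      rw [(isTerm k).hom_ext ((isTerm k).from ((yon (base k)).obj ((fgSpecs k K).obj A)))
        ((yon (base k)).map (Over.mkIdTerminal.from ((fgSpecs k K).obj A)))]
      refine (repWith_yon_map_iff @IsAffineHom _).2 ?_
      have : IsAffine ((fgSpecs k K).obj A).left := inferInstanceAs (IsAffine (Spec (CommRingCat.of A.unop.1)))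
      have : IsAffine (Over.mk (𝟙 (base k))).left := inferInstanceAs (IsAffine (Spec (CommRingCat.of k)))
      exact isAffineHom_of_isAffine _)
  have hjQK : RepWith @IsOpenImmersion (prod.map jQ (𝟙 (yS k K))) :=
    repWith_of_isPullback (isPullback_prod_map jQ).flip hjQ
  obtain ⟨jW', hjW'⟩ := exists_factor_open hjQK jW fun w => by
    obtain ⟨z, hz⟩ := hCQ ⟨w, rfl⟩
    obtain ⟨v, hv, -⟩ := exists_point_of_isPullback (isPullback_prod_map (Y := yS k K) jQ)
      (x := Points.ofPt jW w) (y := z) (by rw [Points.map_ofPt]; exact hz.symm)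
    exact ⟨v, hv⟩
  have hjW'o : RepWith @IsOpenImmersion jW' := by
    have hmono := mono_of_openImm hjQK
    have sq : IsPullback jW' (𝟙 _) (prod.map jQ (𝟙 (yS k K))) jW :=
      IsPullback.of_vert_isIso_mono ⟨by rw [hjW', Category.id_comp]⟩
    exact repWith_of_isPullback sq.flip hjW
  obtain ⟨i, Ui, ji, q, hji, hUqc, sq⟩ := exists_quasiCompact_open_descends D
    (fun A => isAlgSpace_prod hQ (IsAlgSpace.yon_obj _)) hDa
    (fun A => isQuasiSeparatedSp_of_affine _ (hfst A) hQqs) c hc A₀
    (isQuasiCompactSp_of_affine hQ _ (hfst A₀) hQqc) jW' hjW'o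
    ((isQuasiCompactSp_yon_iff _).2 inferInstance)
  have hUA : IsAlgSpace Ui := isAlgSpace_of_representable (isAlgSpace_prod hQ (IsAlgSpace.yon_obj _)) ji hji.rep
  have hUqs : IsQuasiSeparatedSp Ui := by
    have := mono_of_openImm hji
    rw [isQuasiSeparatedSp_iff_mor, (isTerminalYon (base k)).hom_ext ((isTerminalYon (base k)).from Ui)
      (ji ≫ (isTerminalYon (base k)).from _)]
    exact isQuasiSeparatedMor_comp (repWith_of_isIso _ _)
      ((isQuasiSeparatedSp_iff_mor _).1 (isQuasiSeparatedSp_of_affine _ (hfst i) hQqs))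
  obtain ⟨A, φ, W', ra, rb, hW', sR⟩ := exists_affine_pullback_stage D
    (fun A => isAlgSpace_prod hQ (IsAlgSpace.yon_obj _)) hDa c hc hUA hUqc hUqs ji sq.flip
    (T := W) inferInstance (Iso.refl _)
  refine ⟨A.unop.1, A.unop.2, W', rb ≫ prod.map jQ (𝟙 _), hW',
    repWith_comp (repWith_of_isPullback sR hji) (repWith_of_isPullback (isPullback_prod_map jQ).flip hjQ),
    fun w => ?_⟩
  have h1 : Points.map ji (Points.map q (Points.ofScheme W w)) =
      Points.map (D.map φ) (Points.map (c.π.app A) (Points.ofPt jW' w)) := by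
    rw [← Points.map_comp, ← Points.map_comp (c.π.app A), c.w, ← sq.w, Points.ofPt_eq_map_ofScheme,
      ← Points.map_comp]
  obtain ⟨z, -, hz⟩ := exists_point_of_isPullback sR h1
  refine ⟨z, ?_⟩
  rw [Points.map_comp, hz, ← Points.map_comp, ← hjW', Points.map_ofPt, Points.map_ofPt]
  congr 1
  simp [c, prod.map_map]
  rfl

end Groth.Agent.AlgSpGrp5
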