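import Groth.Agent.AlgSpGrp5.Translate
import Groth.Agent.AlgSpGrp5.Stage
import Groth.Agent.AlgSpGrp5.Avoid
import Groth.Agent.AlgSpGrp5.FinDescent
import Groth.Agent.AlgSpDec.LqfScheme

/-!
# Separated group spaces over fields are schemes
-/

set_option backward.isDefEq.respectTransparency false
set_option backward.isDefEq.respectTransparency.types false

universe u

open CategoryTheory CategoryTheory.Limits AlgebraicGeometry AlgSp Groth.Agent.AlgSpLib Groth.Agent.AlgSpPts
  Groth.Agent.AlgSpDec TensorProduct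

namespace Groth.Agent.AlgSpGrp5

variable {k : Type u} [Field k] {G : Over ((AlgSp.yon (base k)).obj (Over.mk (𝟙 _)))} [GrpObj G]

/-- Right translation by a section. -/
noncomputable def translateR {P : Sp (base k)} (g : P ⟶ G.left) : G.left ⨯ P ≅ G.left ⨯ P where
  hom := prod.lift (gmul prod.fst (prod.snd ≫ g)) prod.snd
  inv := prod.lift (gmul prod.fst (prod.snd ≫ ginv g)) prod.snd
  hom_inv_id := by
    apply Limits.prod.hom_ext
    · rw [Category.assoc, prod.lift_fst, comp_gmul, prod.lift_snd_assoc, prod.lift_fst, gmul_assoc,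
        ← comp_gmul, gmul_inv, comp_gone, gmul_one, Category.id_comp]
    · rw [Category.assoc, prod.lift_snd, prod.lift_snd, Category.id_comp]
  inv_hom_id := by
    apply Limits.prod.hom_ext
    · rw [Category.assoc, prod.lift_fst, comp_gmul, prod.lift_snd_assoc, prod.lift_fst, gmul_assoc,
        ← comp_gmul, ginv_mul, comp_gone, gmul_one, Category.id_comp]
    · rw [Category.assoc, prod.lift_snd, prod.lift_snd, Category.id_comp]

theorem lift_translateR {P Q : Sp (base k)} (g : P ⟶ G.left) (a : Q ⟶ G.left) (b : Q ⟶ P) :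
    prod.lift a b ≫ (translateR g).hom = prod.lift (gmul a (b ≫ g)) b := by
  apply Limits.prod.hom_ext <;> simp [translateR, comp_gmul]

/-- An affine open over a finitely generated subalgebra containing the generic point over `x`. -/
theorem exists_stage_at (hG : IsAlgSpace G.left) (hsep : IsSeparatedSp G.left) {L : Type u} [Field L] [Algebra k L]
    (xL : yS k L ⟶ G.left) :
    ∃ (A : Type u) (_ : CommRing A) (_ : IsDomain A) (_ : Algebra k A) (_ : Algebra.FiniteType k A)
      (W' : Over (base k)) (j' : (yon (base k)).obj W' ⟶ G.left ⨯ yS k A) (hN : (nilradical (A ⊗[k] L)).IsPrime),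
      IsAffine W'.left ∧ RepWith @IsOpenImmersion j' ∧
      pt (prod.lift (yM (Algebra.TensorProduct.includeRight : L →ₐ[k] A ⊗[k] L) ≫ xL)
        (yM (Algebra.TensorProduct.includeLeft : A →ₐ[k] A ⊗[k] L))) ⟨_, hN⟩ ∈ Set.range (Points.map j') := by
  have hqs : IsQuasiSeparatedSp G.left :=
    repWith_mono (fun _ _ f (_ : IsClosedImmersion f) => (inferInstance : QuasiCompact f)) _ hsep
  obtain ⟨R, _, _, j, t, hj, hmax, hirr⟩ := exists_geomIrred_point hG hsep
  have hN : (nilradical (t.asIdeal.ResidueField ⊗[k] L)).IsPrime :=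
    PrimeSpectrum.irreducibleSpace_iff_isPrime_nilradical.1 (hirr L)
  let ζ : PrimeSpectrum (t.asIdeal.ResidueField ⊗[k] L) := ⟨_, hN⟩
  obtain ⟨V, _, _, i, hi, qn, hqn⟩ :=
    exists_open_translate hG hqs hj hmax xL (ζ := ζ) fun q => nilradical_le_prime q.asIdeal
  let inl : t.asIdeal.ResidueField →ₐ[k] t.asIdeal.ResidueField ⊗[k] L := Algebra.TensorProduct.includeLeft
  let inr : L →ₐ[k] t.asIdeal.ResidueField ⊗[k] L := Algebra.TensorProduct.includeRight
  let ρ := translateR (resPt j t)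
  let lK : yS k (t.asIdeal.ResidueField ⊗[k] L) ⟶ G.left ⨯ yS k t.asIdeal.ResidueField :=
    prod.lift (yM inr ≫ xL) (yM inl)
  have hiK : RepWith @IsOpenImmersion (prodChart i t.asIdeal.ResidueField ≫ ρ.inv) :=
    repWith_comp (repWith_of_isPullback (isPullback_prod_chart i).flip hi) (repWith_of_isIso _ _)
  obtain ⟨qW, hqW⟩ : ∃ q, pt (prodChart i t.asIdeal.ResidueField ≫ ρ.inv) q = pt lK ζ := by
    obtain ⟨q, -, hq⟩ := exists_lift_point i (Points.map ρ.hom (pt lK ζ)) qn (by
      rw [← Points.map_comp, map_pt, ← Category.assoc, lift_translateR, prod.lift_fst]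
      exact hqn.symm)
    exact ⟨q, by rw [← map_pt, hq, ← Points.map_comp, ρ.hom_inv_id, Points.map_id]⟩
  haveI : IsAffine (specK k (V ⊗[k] t.asIdeal.ResidueField)).left := inferInstanceAs (IsAffine (Spec _))
  obtain ⟨A, hA, W', j', hW', hj', hsub⟩ := exists_stage hG hqs _ hiK
  -- the bad locus over `A`
  let toK : A ⊗[k] L →ₐ[k] t.asIdeal.ResidueField ⊗[k] L := Algebra.TensorProduct.map A.val (AlgHom.id k L)
  have htoK : Function.Injective toK :=
    Module.Flat.rTensor_preserves_injective_linearMap (M := L) A.val.toLinearMap Subtype.val_injective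
  have hNA : nilradical (A ⊗[k] L) = (nilradical (t.asIdeal.ResidueField ⊗[k] L)).comap toK.toRingHom := by
    ext y
    simp only [mem_nilradical, Ideal.mem_comap]
    exact (IsNilpotent.map_iff (f := toK) htoK).symm
  haveI hNAp : (nilradical (A ⊗[k] L)).IsPrime := by rw [hNA]; exact hN.comap toK.toRingHom
  let lA : yS k (A ⊗[k] L) ⟶ G.left ⨯ yS k A :=
    prod.lift (yM (Algebra.TensorProduct.includeRight : L →ₐ[k] A ⊗[k] L) ≫ xL)
      (yM (Algebra.TensorProduct.includeLeft : A →ₐ[k] A ⊗[k] L))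
  let ζA : PrimeSpectrum (A ⊗[k] L) := ⟨_, hNAp⟩
  have hζA : pt lA ζA ∈ Set.range (Points.map j') := by
    obtain ⟨z, hz⟩ := hsub qW
    refine ⟨z, hz.trans ?_⟩
    have hq : Points.ofPt (prodChart i t.asIdeal.ResidueField ≫ ρ.inv) qW = pt lK ζ := hqW
    rw [hq]
    have e1 : lK ≫ prod.map (𝟙 _) (yM A.val) = yM toK ≫ lA := by
      apply Limits.prod.hom_ext
      · rw [Category.assoc, prod.map_fst, Category.comp_id, prod.lift_fst, Category.assoc, prod.lift_fst,
          ← Category.assoc, ← yM_comp]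
        exact congrArg (fun f => yM f ≫ xL) (AlgHom.ext fun l => by simp [toK, inr])
      · rw [Category.assoc, prod.map_snd, prod.lift_snd_assoc, Category.assoc, prod.lift_snd, ← yM_comp, ← yM_comp]
        exact congrArg yM (AlgHom.ext fun a => by simp [toK, inl])
    rw [map_pt, e1, pt_yM]
    exact congrArg (pt lA) (PrimeSpectrum.ext hNA.symm)
  exact ⟨A, inferInstance, inferInstance, inferInstance, (Subalgebra.fg_iff_finiteType A).1 hA, W', j', hNAp, hW',
    hj', hζA⟩

theorem exists_open_subscheme_at (hG : IsAlgSpace G.left) (hsep : IsSeparatedSp G.left) (x : Points G.left) :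
    ∃ (T : Over (base k)) (j : (yon (base k)).obj T ⟶ G.left),
      RepWith @IsOpenImmersion j ∧ x ∈ Set.range (Points.map j) := by
  obtain ⟨L, _, _, xL, hxL⟩ := exists_fieldRep hG x
  obtain ⟨A, _, _, _, _, W', j', hNAp, hW', hj', hζA'⟩ := exists_stage_at hG hsep xL
  let lA : yS k (A ⊗[k] L) ⟶ G.left ⨯ yS k A :=
    prod.lift (yM (Algebra.TensorProduct.includeRight : L →ₐ[k] A ⊗[k] L) ≫ xL)
      (yM (Algebra.TensorProduct.includeLeft : A →ₐ[k] A ⊗[k] L))
  let ζA : PrimeSpectrum (A ⊗[k] L) := ⟨_, hNAp⟩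
  let O : Set (PrimeSpectrum (A ⊗[k] L)) := pt lA ⁻¹' Set.range (Points.map j')
  have hO : IsOpen O :=
    (isOpen_range_openImm (isAlgSpace_prod hG (IsAlgSpace.yon_obj _)) hj').preimage (Points.continuous_ofPt lA)
  have hζA : ζA ∈ O := hζA'
  obtain ⟨I, hI⟩ := (PrimeSpectrum.isClosed_iff_zeroLocus_ideal _).1 hO.isClosed_compl
  have hIN : ¬ I ≤ nilradical (A ⊗[k] L) := fun h => by
    have : ζA ∈ Oᶜ := by rw [hI]; exact h
    exact this hζA
  obtain ⟨m, hm, hmI⟩ := exists_maximal_avoiding k L A I hNAp hIN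
  letI := Ideal.Quotient.field m
  haveI : Module.Finite k (A ⧸ m) := finite_of_finite_type_of_isJacobsonRing k (A ⧸ m)
  let π : A →ₐ[k] A ⧸ m := Ideal.Quotient.mkₐ k m
  -- the fibre over `m`
  have hπa : IsAffineMor (prod.map (𝟙 G.left) (yM π)) :=
    isAffineMor_of_repWith le_rfl (repWith_of_isPullback (isPullback_prod_map_snd _).flip
      ((repWith_yon_map_iff @IsAffineHom _).2 (inferInstanceAs (IsAffineHom (Spec.map _)))))
  obtain ⟨W'', r, f'', sq'', hW''⟩ := hπa hW' j'
  have hcov : Points.map (prod.fst : G.left ⨯ yS k (A ⧸ m) ⟶ G.left) ⁻¹' {x} ⊆ Set.range (Points.map f'') := by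
    intro y hy
    obtain ⟨q, -, hqy⟩ := exists_lift_point xL y ⊥ ((Set.mem_singleton_iff.1 hy).trans (hxL ⊥).symm)
    let φ : A ⊗[k] L →ₐ[k] L ⊗[k] (A ⧸ m) :=
      (Algebra.TensorProduct.comm k (A ⧸ m) L).toAlgHom.comp (Algebra.TensorProduct.map π (AlgHom.id k L))
    have e2 : prodChart xL (A ⧸ m) ≫ prod.map (𝟙 _) (yM π) = yM φ ≫ lA := by
      apply Limits.prod.hom_ext
      · rw [Category.assoc, prod.map_fst, Category.comp_id, prod.lift_fst, Category.assoc, prod.lift_fst,
          ← Category.assoc, ← yM_comp]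
        exact congrArg (fun f => yM f ≫ xL) (AlgHom.ext fun l => by simp [φ])
      · rw [Category.assoc, prod.map_snd, prod.lift_snd_assoc, Category.assoc, prod.lift_snd, ← yM_comp, ← yM_comp]
        exact congrArg yM (AlgHom.ext fun a => by simp [φ])
    have hmem : PrimeSpectrum.comap φ.toRingHom q ∈ O := by
      by_contra hn
      have hmem' : PrimeSpectrum.comap φ.toRingHom q ∈ PrimeSpectrum.zeroLocus (I : Set (A ⊗[k] L)) := hI ▸ hn
      refine hmI _ (PrimeSpectrum.comap φ.toRingHom q).isPrime hmem' ?_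
      show Ideal.comap (φ.toRingHom.comp (algebraMap A (A ⊗[k] L))) q.asIdeal = m
      have : φ.toRingHom.comp (algebraMap A (A ⊗[k] L)) =
          (Algebra.TensorProduct.includeRight : A ⧸ m →ₐ[k] L ⊗[k] (A ⧸ m)).toRingHom.comp (Ideal.Quotient.mk m) :=
        RingHom.ext fun a => by simp [φ, π]
      rw [this, ← Ideal.comap_comap]
      have hb : Ideal.comap (Algebra.TensorProduct.includeRight : A ⧸ m →ₐ[k] L ⊗[k] (A ⧸ m)).toRingHom q.asIdeal = ⊥ :=
        (Ideal.eq_bot_or_top _).resolve_right (Ideal.comap_ne_top _ q.isPrime.ne_top)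
      rw [hb, ← RingHom.ker_eq_comap_bot, Ideal.mk_ker]
    obtain ⟨z, hz⟩ := hmem
    have : Points.map (prod.map (𝟙 _) (yM π)) y = Points.map j' z := by
      rw [hz, ← hqy, map_pt, e2, pt_yM]
    obtain ⟨w, hw, -⟩ := exists_point_of_isPullback sq'' this
    exact ⟨w, hw⟩
  haveI : IsFinite (Spec.map (CommRingCat.ofHom (algebraMap k (A ⧸ m)))) :=
    (IsFinite.SpecMap_iff _).2 (RingHom.finite_algebraMap.2 inferInstance)
  have hflat : Flat (Spec.map (CommRingCat.ofHom (algebraMap k (A ⧸ m)))) :=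
    HasRingHomProperty.Spec_iff.2 (RingHom.flat_algebraMap_iff.2 inferInstance)
  have hlfp : LocallyOfFinitePresentation (Spec.map (CommRingCat.ofHom (algebraMap k (A ⧸ m)))) :=
    HasRingHomProperty.Spec_iff.2 (RingHom.finitePresentation_algebraMap.2
      (Algebra.FinitePresentation.of_finiteType.1 inferInstance))
  have hsur : Surjective (Spec.map (CommRingCat.ofHom (algebraMap k (A ⧸ m)))) :=
    ⟨fun p => ⟨(⊥ : PrimeSpectrum (A ⧸ m)), Subsingleton.elim (α := PrimeSpectrum k) _ _⟩⟩
  have hto : (isTerm k).from (yS k (A ⧸ m)) = (yon (base k)).map (Over.mkIdTerminal.from (specK k (A ⧸ m))) :=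
    (isTerm k).hom_ext _ _
  have hleft : (Over.mkIdTerminal.from (specK k (A ⧸ m))).left =
      Spec.map (CommRingCat.ofHom (algebraMap k (A ⧸ m))) :=
    (Category.comp_id _).symm.trans (Over.w (Over.mkIdTerminal.from (specK k (A ⧸ m))))
  refine exists_open_subscheme_of_finLocFree_cover hG (prod.fst : G.left ⨯ yS k (A ⧸ m) ⟶ G.left)
    (repWith_of_isPullback (isPullback_prod_fst _) ?_) (repWith_of_isPullback (isPullback_prod_fst _) ?_)
    f'' (repWith_of_isPullback sq''.flip hj') x hcov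
  · rw [hto]
    refine (repWith_yon_map_iff @IsFinite _).2 ?_
    rw [hleft]; infer_instance
  · rw [hto]
    refine (repWith_yon_map_iff AlgSpLib.fppf _).2 ?_
    rw [hleft]
    exact @fppf_of _ _ _ hsur hflat hlfp

theorem isRepresentable (hG : IsAlgSpace G.left) (hsep : IsSeparatedSp G.left) : G.left.obj.IsRepresentable := by
  obtain ⟨Q, ⟨e⟩⟩ := exists_rep_of_points hG fun x => by
    obtain ⟨T, j, hj, z, hz⟩ := exists_open_subscheme_at hG hsep x
    obtain ⟨v, rfl⟩ := (Points.schemeHomeo T).surjective z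
    exact ⟨T, j, v, hj, (Points.ofPt_eq_map_ofScheme _ _).trans hz⟩
  exact (representableByOfIso e).isRepresentable

end Groth.Agent.AlgSpGrp5
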