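import Groth.Agent.AlgSpGrp5.Eta
import Groth.Agent.AlgSpDec.Fibres
import Mathlib.RingTheory.Ideal.GoingDown

/-!
# Translates of the generic point lie in the scheme locus
-/

set_option backward.isDefEq.respectTransparency false
set_option backward.isDefEq.respectTransparency.types false

universe u

open CategoryTheory CategoryTheory.Limits AlgebraicGeometry AlgSp Groth.Agent.AlgSpLib Groth.Agent.AlgSpPts
  Groth.Agent.AlgSpDec TensorProduct Order

namespace Groth.Agent.AlgSpGrp5

variable {k : Type u} [Field k] {G : Over ((AlgSp.yon (base k)).obj (Over.mk (𝟙 _)))} [GrpObj G]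

/-- The field-valued point of a point of an affine scheme over the group. -/
noncomputable abbrev resPt {R : Type u} [CommRing R] [Algebra k R] (j : yS k R ⟶ G.left) (t : PrimeSpectrum R) :
    yS k t.asIdeal.ResidueField ⟶ G.left :=
  yM (IsScalarTower.toAlgHom k R t.asIdeal.ResidueField) ≫ j

theorem pt_resPt {R : Type u} [CommRing R] [Algebra k R] (j : yS k R ⟶ G.left) (t : PrimeSpectrum R)
    (q : PrimeSpectrum t.asIdeal.ResidueField) : pt (resPt j t) q = pt j t := by
  rw [pt_yM]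
  refine congrArg (pt j) (PrimeSpectrum.ext ?_)
  show Ideal.comap (algebraMap R t.asIdeal.ResidueField) q.asIdeal = t.asIdeal
  rw [(Ideal.eq_bot_or_top q.asIdeal).resolve_right q.isPrime.ne_top]
  exact Ideal.ker_algebraMap_residueField t.asIdeal

theorem exists_open_translate (hG : IsAlgSpace G.left) (hqs : IsQuasiSeparatedSp G.left)
    {R : Type u} [CommRing R] [Algebra k R] {j : yS k R ⟶ G.left} {t : PrimeSpectrum R}
    (hj : RepWith @IsOpenImmersion j) (hmax : ∀ p, p ⤳ pt j t → p = pt j t)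
    {L : Type u} [Field L] [Algebra k L] (x : yS k L ⟶ G.left)
    {ζ : PrimeSpectrum (t.asIdeal.ResidueField ⊗[k] L)} (hζ : ∀ q, ζ ≤ q) :
    ∃ (V : Type u) (_ : CommRing V) (_ : Algebra k V) (i : yS k V ⟶ G.left), RepWith @IsOpenImmersion i ∧
      pt (gmul (yM (Algebra.TensorProduct.includeRight : L →ₐ[k] t.asIdeal.ResidueField ⊗[k] L) ≫ x)
        (yM (Algebra.TensorProduct.includeLeft : t.asIdeal.ResidueField →ₐ[k] t.asIdeal.ResidueField ⊗[k] L) ≫
          resPt j t)) ζ ∈ Set.range (pt i) := by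
  have hXL : IsAlgSpace (G.left ⨯ yS k L) := isAlgSpace_prod hG (IsAlgSpace.yon_obj _)
  have hj' : RepWith @IsOpenImmersion (prodChart j L) := repWith_of_isPullback (isPullback_prod_chart j).flip hj
  let ξ := pt (prodChart (resPt j t) L) ζ
  have hfst : ∀ q, Points.map prod.fst (pt (prodChart (resPt j t) L) q) = pt j t := fun q => by
    rw [map_fst_pt_prodChart, pt_resPt]
  have hξ : ∀ μ, μ ⤳ ξ → μ = ξ := by
    intro μ hμ
    have hμt : Points.map prod.fst μ = pt j t :=
      hmax _ (hfst ζ ▸ hμ.map (Points.continuous_map prod.fst))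
    obtain ⟨P, hP, hPμ⟩ := exists_lift_point j μ t hμt
    obtain ⟨Q, hQ, hQμ⟩ := exists_lift_point (resPt j t) μ ⊥ (hμt.trans (pt_resPt j t ⊥).symm)
    have hξμ : ξ ⤳ μ := hQμ ▸ pt_specializes _ (hζ Q)
    obtain ⟨P', -, hP'ξ⟩ := exists_lift_point j ξ t (hfst ζ)
    rw [← hPμ, ← hP'ξ] at hμ hξμ ⊢
    have he := (isOpenEmbedding_pt hXL hj').isInducing
    exact congrArg (pt _) ((he.specializes_iff.1 hμ).antisymm (he.specializes_iff.1 hξμ)).eq
  let τ := translate x
  let n' := Points.map τ.hom ξ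
  have hn' : ∀ μ, μ ⤳ n' → μ = n' := by
    intro μ hμ
    have h1 : Points.map τ.inv μ = ξ := hξ _ (by
      have := hμ.map (Points.continuous_map τ.inv)
      rwa [show Points.map τ.inv n' = ξ by
        rw [← Points.map_comp, τ.hom_inv_id, Points.map_id]] at this)
    rw [show n' = Points.map τ.hom ξ from rfl, ← h1, ← Points.map_comp, τ.inv_hom_id, Points.map_id]
  let nf := gmul (yM (Algebra.TensorProduct.includeRight : L →ₐ[k] t.asIdeal.ResidueField ⊗[k] L) ≫ x)
    (yM (Algebra.TensorProduct.includeLeft : t.asIdeal.ResidueField →ₐ[k] t.asIdeal.ResidueField ⊗[k] L) ≫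
      resPt j t)
  have hnn : Points.map prod.fst n' = pt nf ζ := by
    rw [show n' = pt (prodChart (resPt j t) L ≫ τ.hom) ζ from map_pt _ _ _, map_pt, lift_translate, prod.lift_fst]
  obtain ⟨R₀, _, _, a, w, ha, haw⟩ := exists_chart_at hG (pt nf ζ)
  obtain ⟨w', hw', hw'n⟩ := exists_lift_point a n' w (hnn.trans haw.symm)
  have hd := isDecent_of_isQuasiSeparatedSp hG hqs
  have hw : coheight (α := ↥(specK k R₀).left) w = 0 := coheight_eq_zero.2 fun v hv => by
    have hvw : (v : PrimeSpectrum R₀) ⤳ w := Scheme.le_iff_specializes.1 hv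
    have hle : (v : PrimeSpectrum R₀).asIdeal ≤ w.asIdeal := (PrimeSpectrum.le_iff_specializes _ _).2 hvw
    have : w'.asIdeal.LiesOver w.asIdeal := ⟨(congrArg PrimeSpectrum.asIdeal hw').symm⟩
    have : (v : PrimeSpectrum R₀).asIdeal.IsPrime := (v : PrimeSpectrum R₀).2
    obtain ⟨v', hv'le, hv'p, hv'v⟩ := Ideal.exists_ideal_le_liesOver_of_le (S := R₀ ⊗[k] L)
      (p := (v : PrimeSpectrum R₀).asIdeal) (q := w.asIdeal) w'.asIdeal hle
    have hs : pt (prodChart a L) (⟨v', hv'p⟩ : PrimeSpectrum (R₀ ⊗[k] L)) ⤳ n' := hw'n ▸ pt_specializes _ hv'le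
    have he : pt a v = pt a w := by
      have := congrArg (Points.map prod.fst) (hn' _ hs)
      rw [map_fst_pt_prodChart, hnn, ← haw] at this
      rwa [show PrimeSpectrum.comap (algebraMap R₀ (R₀ ⊗[k] L)) ⟨v', hv'p⟩ = (v : PrimeSpectrum R₀) from
        PrimeSpectrum.ext hv'v.over.symm] at this
    exact (eq_of_specializes_of_isDecent hd ha he.symm hvw).symm.le
  obtain ⟨T, jT, hjT, hmem⟩ := exists_open_subscheme_of_codimZero_qs hG hqs ha w hw
  obtain ⟨V, _, _, i, p, hi, hip⟩ := exists_open_affine_at hjT (x := pt nf ζ) (haw ▸ hmem)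
  exact ⟨V, inferInstance, inferInstance, i, hi, p, hip⟩

end Groth.Agent.AlgSpGrp5
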