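import Groth.Agent.S2715
import Groth.Agent.AlgSpDec.GpdHomogField
import Groth.Agent.AlgSpDec.GrpGroupoid
import Groth.Agent.AlgSpDec.EtStalkBranches
import Groth.Agent.AlgSpDec.MonoRep
import Groth.Agent.AlgSpDec.CodimZero
import Groth.Agent.UnibEtale.Basic
import Groth.Agent.Brnch93.Punctured
import Groth.Agent.AlgSpPts.Dim
import Mathlib.RingTheory.Localization.BaseChange

/-!
# Groupoid spaces over fields are geometrically unibranch
-/

set_option backward.isDefEq.respectTransparency false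
set_option backward.isDefEq.respectTransparency.types false

universe u

open CategoryTheory CategoryTheory.Limits AlgebraicGeometry AlgSp Groth.Agent.AlgSpLib Groth.Agent.AlgSpPts
  Groth.Agent.AlgSpDec TensorProduct

namespace Groth.Agent.AlgSpGrp5.Unib

/-- Geometric unibranchness is insensitive to field extensions, on the localisations. -/
theorem isGeomUnibranch_tensor_iff (k A L : Type u) [Field k] [CommRing A] [Algebra k A] [Field L] [Algebra k L]
    (q : Ideal (A ⊗[k] L)) [q.IsPrime] :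
    CAlg2.IsGeomUnibranch (Localization.AtPrime (q.comap (algebraMap A (A ⊗[k] L)))) ↔
      CAlg2.IsGeomUnibranch (Localization.AtPrime q) := by
  let p := q.comap (algebraMap A (A ⊗[k] L))
  let Ap := Localization.AtPrime p
  let φ : A ⊗[k] L →ₐ[k] Ap ⊗[k] L :=
    Algebra.TensorProduct.map (IsScalarTower.toAlgHom k A Ap) (AlgHom.id k L)
  letI : Algebra (A ⊗[k] L) (Ap ⊗[k] L) := φ.toRingHom.toAlgebra
  haveI : IsLocalization (Algebra.algebraMapSubmonoid (A ⊗[k] L) p.primeCompl) ((A ⊗[k] L) ⊗[A] Ap) :=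
    IsLocalization.tensor (A := Ap) (S := A ⊗[k] L) p.primeCompl
  let e : (A ⊗[k] L) ⊗[A] Ap ≃+* Ap ⊗[k] L :=
    (Algebra.TensorProduct.comm A (A ⊗[k] L) Ap).toRingEquiv.trans
      (Algebra.TensorProduct.cancelBaseChange k A A Ap L).toRingEquiv
  have he : ∀ z : A ⊗[k] L, e (algebraMap (A ⊗[k] L) ((A ⊗[k] L) ⊗[A] Ap) z) = φ z := fun z => by
    induction z with
    | zero => simp
    | tmul a l =>
      rw [Algebra.TensorProduct.algebraMap_apply]
      simp [e, φ, Algebra.smul_def]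
    | add x y hx hy => rw [map_add, map_add, hx, hy, map_add]
  let e' : (A ⊗[k] L) ⊗[A] Ap ≃ₐ[A ⊗[k] L] Ap ⊗[k] L := AlgEquiv.ofRingEquiv (f := e) he
  haveI hloc : IsLocalization (Algebra.algebraMapSubmonoid (A ⊗[k] L) p.primeCompl) (Ap ⊗[k] L) :=
    IsLocalization.isLocalization_of_algEquiv _ e'
  have hdisj : Disjoint ((Algebra.algebraMapSubmonoid (A ⊗[k] L) p.primeCompl : Submonoid (A ⊗[k] L)) :
      Set (A ⊗[k] L)) (q : Set (A ⊗[k] L)) := by
    rw [Set.disjoint_left]
    rintro _ ⟨a, ha, rfl⟩ hmem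
    exact ha hmem
  let q' := q.map (algebraMap (A ⊗[k] L) (Ap ⊗[k] L))
  haveI hq'p : q'.IsPrime := IsLocalization.isPrime_of_isPrime_disjoint _ _ q ‹_› hdisj
  have hq'c : q'.comap (algebraMap (A ⊗[k] L) (Ap ⊗[k] L)) = q :=
    IsLocalization.comap_map_of_isPrime_disjoint (Algebra.algebraMapSubmonoid (A ⊗[k] L) p.primeCompl) _ ‹q.IsPrime› hdisj
  haveI : IsScalarTower A Ap (Ap ⊗[k] L) := inferInstance
  have hmax : q'.comap (algebraMap Ap (Ap ⊗[k] L)) = IsLocalRing.maximalIdeal Ap := by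
    have hp : (q'.comap (algebraMap Ap (Ap ⊗[k] L))).comap (algebraMap A Ap) = p := by
      rw [Ideal.comap_comap]
      have : (algebraMap Ap (Ap ⊗[k] L)).comp (algebraMap A Ap) =
          (algebraMap (A ⊗[k] L) (Ap ⊗[k] L)).comp (algebraMap A (A ⊗[k] L)) :=
        RingHom.ext fun a => by
          show _ = φ (a ⊗ₜ 1)
          simp [φ, Algebra.TensorProduct.algebraMap_apply]
      rw [this, ← Ideal.comap_comap, hq'c]
    have h2 := IsLocalization.map_comap p.primeCompl Ap (q'.comap (algebraMap Ap (Ap ⊗[k] L)))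
    rw [Ideal.under_def, hp] at h2
    rw [← h2]
    exact Localization.AtPrime.map_eq_maximalIdeal
  refine (Groth.Agent.S2715.result k Ap L q' hmax).trans ?_
  have h3 : IsLocalization.AtPrime (Localization.AtPrime q') (q'.comap (algebraMap (A ⊗[k] L) (Ap ⊗[k] L))) :=
    IsLocalization.isLocalization_isLocalization_atPrime_isLocalization
      (Algebra.algebraMapSubmonoid (A ⊗[k] L) p.primeCompl) (Localization.AtPrime q') q'
  have h4 : IsLocalization q.primeCompl (Localization.AtPrime q') := by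
    have e : (q'.comap (algebraMap (A ⊗[k] L) (Ap ⊗[k] L))).primeCompl = q.primeCompl :=
      SetLike.ext fun z => by simp only [Ideal.mem_primeCompl_iff, hq'c]
    exact e ▸ h3
  let E : Localization.AtPrime q' ≃+* Localization.AtPrime q :=
    (IsLocalization.algEquiv q.primeCompl (Localization.AtPrime q') (Localization.AtPrime q)).toRingEquiv
  exact ⟨UnibEtale.isGeomUnibranch_of_ringEquiv E, UnibEtale.isGeomUnibranch_of_ringEquiv E.symm⟩

theorem stalk_iff {R : Type u} [CommRing R] (p : PrimeSpectrum R) :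
    CAlg2.IsGeomUnibranch ↥((Spec (CommRingCat.of R)).presheaf.stalk p) ↔
      CAlg2.IsGeomUnibranch (Localization.AtPrime p.asIdeal) := by
  letI : Algebra R ↥((Spec (CommRingCat.of R)).presheaf.stalk p) :=
    show Algebra R ((Spec.structureSheaf R).presheaf.stalk p) by infer_instance
  haveI : IsLocalization p.asIdeal.primeCompl ↥((Spec (CommRingCat.of R)).presheaf.stalk p) :=
    inferInstanceAs (IsLocalization.AtPrime ((Spec.structureSheaf R).presheaf.stalk p) p.asIdeal)
  let E : ↥((Spec (CommRingCat.of R)).presheaf.stalk p) ≃+* Localization.AtPrime p.asIdeal :=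
    (IsLocalization.algEquiv p.asIdeal.primeCompl _ _).toRingEquiv
  exact ⟨UnibEtale.isGeomUnibranch_of_ringEquiv E, UnibEtale.isGeomUnibranch_of_ringEquiv E.symm⟩

/-- The condition on a point of a scheme. -/
abbrev GU (U : Scheme.{u}) (u : U) : Prop := Brnch.numGeomBranchesAt U u = 1

theorem gu_iff (U : Scheme.{u}) (u : U) : GU U u ↔ CAlg2.IsGeomUnibranch ↥(U.presheaf.stalk u) :=
  BrnchLib.isGeomUnibranch_iff _

theorem gu_iso {U V : Scheme.{u}} (f : U ⟶ V) [IsIso f] (u : U) : GU U u ↔ GU V (f u) := by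
  rw [gu_iff, gu_iff]
  let E := (asIso (f.stalkMap u)).commRingCatIsoToRingEquiv
  exact ⟨UnibEtale.isGeomUnibranch_of_ringEquiv E.symm, UnibEtale.isGeomUnibranch_of_ringEquiv E⟩

theorem gu_baseChange {k L : Type u} [Field k] [Field L] {W : Scheme.{u}} [IsAffine W]
    (h : W ⟶ Spec (CommRingCat.of k)) (l : Spec (CommRingCat.of L) ⟶ Spec (CommRingCat.of k))
    (z : ↥(pullback h l)) : GU W (pullback.fst h l z) ↔ GU (pullback h l) z := by
  let φ : CommRingCat.of k ⟶ Γ(W, ⊤) := Spec.preimage (W.isoSpec.inv ≫ h)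
  let ψ : CommRingCat.of k ⟶ CommRingCat.of L := Spec.preimage l
  letI := φ.hom.toAlgebra
  letI := ψ.hom.toAlgebra
  have sq := (isPullback_SpecMap_of_isPushout _ _ _ _
    (CommRingCat.isPushout_tensorProduct k Γ(W, ⊤) L))
  have sq' : IsPullback (Spec.map (CommRingCat.ofHom (algebraMap Γ(W, ⊤) (Γ(W, ⊤) ⊗[k] L))) ≫ W.isoSpec.inv)
      (Spec.map (CommRingCat.ofHom
        (Algebra.TensorProduct.includeRight (R := k) (A := Γ(W, ⊤)) (B := L)).toRingHom)) h l := by
    refine sq.of_iso (Iso.refl _) W.isoSpec.symm (Iso.refl _) (Iso.refl _) ?_ ?_ ?_ ?_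
    · simp <;> rfl
    · simp <;> rfl
    · simp only [Iso.refl_hom, Category.comp_id, Iso.symm_hom]
      exact Spec.map_preimage _
    · simp only [Iso.refl_hom, Category.comp_id, Category.id_comp]
      exact Spec.map_preimage _
  let e := sq'.isoPullback
  obtain ⟨q, rfl⟩ : ∃ q, e.hom q = z :=
    ⟨e.inv z, (Scheme.Hom.comp_apply _ _ _).symm.trans (by rw [e.inv_hom_id]; rfl)⟩
  rw [← gu_iso e.hom q, ← Scheme.Hom.comp_apply, sq'.isoPullback_hom_fst, Scheme.Hom.comp_apply]
  refine (gu_iso W.isoSpec.inv _).symm.trans ?_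
  rw [gu_iff, gu_iff]
  refine (stalk_iff (R := Γ(W, ⊤))
    (PrimeSpectrum.comap (algebraMap Γ(W, ⊤) (Γ(W, ⊤) ⊗[k] L)) q)).trans ?_
  exact (isGeomUnibranch_tensor_iff k Γ(W, ⊤) L (q : PrimeSpectrum _).asIdeal).trans
    (stalk_iff (R := Γ(W, ⊤) ⊗[k] L) q).symm

variable {S : Scheme.{u}}

theorem hasAt_iff_chart {X : Sp S} (hX : IsAlgSpace X) {U : Over S} {a : (yon S).obj U ⟶ X}
    (ha : RepWith @Etale a) (u : ↥U.left) : HasAt GU X (Points.ofPt a u) ↔ GU U.left u := by
  refine ⟨?_, fun h => ⟨U, a, u, ha, rfl, h⟩⟩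
  rintro ⟨V, b, v, hb, hv, h⟩
  obtain ⟨p, hp, hpx⟩ := EtStalkProps.exists_geometric (Points.ofPt a u)
  show Brnch.numGeomBranchesAt U.left u = 1
  rw [← EtStalkBranches.encard_eq_numGeomBranchesAt hX hp ha hpx.symm,
    EtStalkBranches.encard_eq_numGeomBranchesAt hX hp hb (hv.trans hpx.symm)]
  exact h

theorem hasAt_iso {X Y : Sp S} (e : X ≅ Y) {x : Points X} (h : HasAt GU X x) :
    HasAt GU Y (Points.map e.hom x) := by
  obtain ⟨U, a, u, ha, rfl, hu⟩ := h
  exact ⟨U, a ≫ e.hom, u, repWith_comp ha (repWith_of_isIso _ e.hom), by rw [Points.map_ofPt], hu⟩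

/-- Invariance under extension of the base field. -/
theorem hasAt_baseChange {k L : Type u} [Field k] [Field L] {σ : Spec (CommRingCat.of k) ⟶ S}
    {τ : Spec (CommRingCat.of L) ⟶ S} {X P : Sp S} (hX : IsAlgSpace X)
    {f : X ⟶ (yon S).obj (Over.mk σ)} {g : (yon S).obj (Over.mk τ) ⟶ (yon S).obj (Over.mk σ)}
    {fst : P ⟶ X} {snd : P ⟶ (yon S).obj (Over.mk τ)} (sq : IsPullback fst snd f g) (z : Points P) :
    HasAt GU X (Points.map fst z) ↔ HasAt GU P z := by
  have hP : IsAlgSpace P := isAlgSpace_of_isPullback sq hX (IsAlgSpace.yon_obj _) (IsAlgSpace.yon_obj _)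
  obtain ⟨W, a, w, hW, ha, hw⟩ := exists_affine_chart_at hX (Points.map fst z)
  obtain ⟨h, hh⟩ := (yon S).map_surjective (a ≫ f)
  obtain ⟨l, rfl⟩ := (yon S).map_surjective g
  let PW : Over S := Over.mk (pullback.fst h.left l.left ≫ W.hom)
  let p₁ : PW ⟶ W := Over.homMk (pullback.fst h.left l.left) rfl
  let p₂ : PW ⟶ Over.mk τ := Over.homMk (pullback.snd h.left l.left) (by
    show pullback.snd h.left l.left ≫ τ = pullback.fst h.left l.left ≫ W.hom
    exact (congrArg (pullback.snd h.left l.left ≫ ·) (Over.w l).symm).trans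
      ((pullback.condition_assoc _).symm.trans (congrArg (pullback.fst h.left l.left ≫ ·) (Over.w h))))
  have sW : IsPullback ((yon S).map p₁) ((yon S).map p₂) ((yon S).map h) ((yon S).map l) :=
    (IsPullback.of_map (Over.forget S) (f := p₁) (g := p₂) (h := h) (i := l)
      (Over.OverMorphism.ext pullback.condition) (IsPullback.of_hasPullback h.left l.left)).map (yon S)
  have hc : ((yon S).map p₁ ≫ a) ≫ f = (yon S).map p₂ ≫ (yon S).map l := by
    rw [Category.assoc, ← hh, sW.w]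
  let b := sq.lift _ _ hc
  have sb : IsPullback ((yon S).map p₁) b a fst := by
    refine (IsPullback.of_right ?_ (sq.lift_fst _ _ hc) sq.flip).flip
    rw [sq.lift_snd, ← hh]
    exact sW.flip
  have hb : RepWith @Etale b := repWith_of_isPullback sb ha
  obtain ⟨v, hv₁, hv₂⟩ := exists_point_of_isPullback sb (x := Points.ofScheme W w) (y := z)
    ((Points.ofPt_eq_map_ofScheme _ _).symm.trans hw)
  obtain ⟨v, rfl⟩ := (Points.schemeHomeo PW).surjective v
  have hv : p₁.left v = w := (Points.schemeHomeo W).injective ((Points.map_yon_map_apply _ _).symm.trans hv₁)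
  have hvz : Points.ofPt b v = z := (Points.ofPt_eq_map_ofScheme _ _).trans hv₂
  rw [← hw, ← hvz, hasAt_iff_chart hX ha, hasAt_iff_chart hP hb, ← hv]
  exact gu_baseChange (L := L) h.left l.left v

theorem exists_hasAt {X : Sp S} (hX : IsAlgSpace X) (x : Points X) : ∃ η, HasAt GU X η := by
  obtain ⟨U, a, v, hU, ha, -⟩ := exists_affine_chart_at hX x
  obtain ⟨u, -, hu⟩ := exists_codimZero_mem ⊤ (⟨v, trivial⟩ : ((⊤ : U.left.Opens) : Set U.left).Nonempty)
  refine ⟨Points.ofPt a u, U, a, u, ha, rfl, (gu_iff _ _).2 ?_⟩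
  haveI : Ring.KrullDimLE 0 ↥(U.left.presheaf.stalk u) := krullDimLE_of_coheight_le (n := 0) hu.le
  haveI : Subsingleton (PrimeSpectrum ↥(U.left.presheaf.stalk u)) := inferInstance
  exact Brnch93.isGeomUnibranch_of_subsingleton _

theorem groupoid_geomUnibranch {B : Sp S} (G : GroupoidSp B) (hR : IsAlgSpace G.R) {k : Type u} [Field k]
    {σ : Spec (CommRingCat.of k) ⟶ S} (eU : G.U ≅ (yon S).obj (Over.mk σ)) (x : Points G.R) :
    HasAt GU G.R x := by
  obtain ⟨η, hη⟩ := exists_hasAt hR x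
  induction x using Points.ind with
  | h px =>
  induction η using Points.ind with
  | h pη =>
  obtain ⟨c₁, hc₁⟩ := (yon S).map_surjective (px.toHom ≫ G.t ≫ eU.hom)
  obtain ⟨c₂, hc₂⟩ := (yon S).map_surjective (pη.toHom ≫ G.t ≫ eU.hom)
  obtain ⟨Ω, _, i₁, i₂, hi⟩ :=
    FieldPt.exists_amalgamation (Spec.preimage c₁.left).hom (Spec.preimage c₂.left).hom
  have hL : Spec.map (CommRingCat.ofHom i₁) ≫ c₁.left = Spec.map (CommRingCat.ofHom i₂) ≫ c₂.left := by
    conv_lhs => rw [← Spec.map_preimage c₁.left]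
    conv_rhs => rw [← Spec.map_preimage c₂.left]
    rw [← Spec.map_comp, ← Spec.map_comp]
    congr 1
    exact CommRingCat.hom_ext hi
  let T : Over S := Over.mk (Spec.map (CommRingCat.ofHom i₁) ≫ px.str)
  let d₁ : T ⟶ px.pt := Over.homMk (Spec.map (CommRingCat.ofHom i₁)) rfl
  have e₁ : c₁.left ≫ σ = px.str := Over.w c₁
  have e₂ : c₂.left ≫ σ = pη.str := Over.w c₂
  let d₂ : T ⟶ pη.pt := Over.homMk (Spec.map (CommRingCat.ofHom i₂)) (by
    show Spec.map (CommRingCat.ofHom i₂) ≫ pη.str = Spec.map (CommRingCat.ofHom i₁) ≫ px.str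
    rw [← e₁, ← e₂, ← Category.assoc, ← Category.assoc, hL])
  let q : (yon S).obj T ⟶ G.R := (yon S).map d₁ ≫ px.toHom
  let r : (yon S).obj T ⟶ G.R := (yon S).map d₂ ≫ pη.toHom
  let pt : ↥T.left := IsLocalRing.closedPoint Ω
  have hq : Points.ofPt q pt = Points.mk px := by
    rw [ofPt_comp, mk_eq_ofPt]
    exact congrArg _ (Subsingleton.elim (α := PrimeSpectrum px.K) _ _)
  have hr : Points.ofPt r pt = Points.mk pη := by
    rw [ofPt_comp, mk_eq_ofPt]
    exact congrArg _ (Subsingleton.elim (α := PrimeSpectrum pη.K) _ _)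
  have hqr : r ≫ G.t = q ≫ G.t := by
    rw [← cancel_mono eU.hom, Category.assoc, Category.assoc, Category.assoc, Category.assoc, ← hc₁, ← hc₂,
      ← Functor.map_comp, ← Functor.map_comp]
    exact congrArg _ (Over.OverMorphism.ext hL.symm)
  let p₁ : (yon S).obj T ⟶ pullback (q ≫ G.s) G.s := pullback.lift (𝟙 _) q (by rw [Category.id_comp])
  let p₂ : (yon S).obj T ⟶ pullback (r ≫ G.s) G.s := pullback.lift (𝟙 _) r (by rw [Category.id_comp])
  have hp : p₂ ≫ GpdFibres.shift r q hqr = p₁ := by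
    apply pullback.hom_ext
    · rw [Category.assoc, GpdFibres.shift_fst, pullback.lift_fst, pullback.lift_fst]
    · rw [Category.assoc, GpdFibres.shift, pullback.lift_snd, pullback.lift_snd, GpdIdent.pre_comp]
      have hA : (r ≫ G.i) ≫ G.s = q ≫ G.t := GpdFibres.trans_hs r q hqr
      have hB : r ≫ G.s = GpdIdent.comp G (r ≫ G.i) q hA ≫ G.t := by
        rw [GpdIdent.comp_t', Category.assoc r G.i, G.i_t]
      refine (GpdIdent.comp_congr G _ hB (pullback.lift_snd _ _ _) ?_).trans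
        (GpdIdent.comp_inv_comp' G r q hqr hA hB)
      rw [← Category.assoc, pullback.lift_fst, Category.id_comp]
      rfl
  have sqOf : ∀ g : (yon S).obj T ⟶ G.R,
      IsPullback (pullback.snd (g ≫ G.s) G.s) (pullback.fst (g ≫ G.s) G.s) (G.s ≫ eU.hom) ((g ≫ G.s) ≫ eU.hom) :=
    fun g => (IsPullback.of_hasPullback (g ≫ G.s) G.s).flip.of_iso (Iso.refl _) (Iso.refl _) (Iso.refl _) eU
      (by simp) (by simp) (by simp) (by simp)
  have k₂ : HasAt GU _ (Points.ofPt p₂ pt) := (hasAt_baseChange (L := Ω) hR (sqOf r) _).1 (by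
    rw [Points.map_ofPt, pullback.lift_snd, hr]; exact hη)
  have k₁ := hasAt_iso
    (⟨GpdFibres.shift r q hqr, GpdFibres.shift q r hqr.symm, GpdFibres.shift_shift r q hqr,
      GpdFibres.shift_shift q r hqr.symm⟩ : _ ≅ _) k₂
  rw [Points.map_ofPt, hp] at k₁
  have k := (hasAt_baseChange (L := Ω) hR (sqOf q) _).2 k₁
  rwa [Points.map_ofPt, pullback.lift_snd, hq] at k

end Groth.Agent.AlgSpGrp5.Unib
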