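import Groth.Agent.AlgSpLib.Sheaf
import Groth.Agent.GITQuot.Fppf
import Groth.Prelude.Def_AlgSpRep
import Groth.Agent.BigSiteLib.ClassSheaf
import Mathlib.CategoryTheory.Limits.Types.Pullbacks

/-!
# Zariski sheaves covered by fppf subsheaves are fppf sheaves
-/

set_option autoImplicit false
set_option backward.isDefEq.respectTransparency false
set_option backward.isDefEq.respectTransparency.types false

universe v u

open CategoryTheory CategoryTheory.Limits AlgebraicGeometry Opposite AlgSp Groth.Agent.AlgSpLib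
  Groth.Agent.BigSiteLib.ClassTop

namespace Groth.Agent.AlgSpGrp5.ZarFppf

variable {S : Scheme.{u}} {F : PSp S} {ι : Type v} {Fi : ι → PSp S}

theorem injective_app {G : PSp S} (a : G ⟶ F) [Mono a] (T : (Over S)ᵒᵖ) : Function.Injective (a.app T) :=
  (mono_iff_injective _).1 inferInstance

theorem mem_range_of_cover {G : PSp S} (a : G ⟶ F) [Mono a] (ha : RepBySp a) {T : Over S} (x : F.obj (op T))
    {R : Sieve T} (hR : R ∈ J S T) (h : ∀ ⦃T' : Over S⦄ (φ : T' ⟶ T), R φ → F.map φ.op x ∈ Set.range (a.app _)) :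
    x ∈ Set.range (a.app (op T)) := by
  let ξ : (pyon S).obj T ⟶ F := uliftYonedaEquiv.symm x
  have hξ : ∀ {T' : Over S} (φ : T' ⟶ T), ξ.app (op T') ⟨φ⟩ = F.map φ.op x := fun φ => rfl
  have hP : ∀ T' : (Over S)ᵒᵖ, IsPullback ((pullback.fst a ξ).app T') ((pullback.snd a ξ).app T')
      (a.app T') (ξ.app T') := fun T' =>
    (IsPullback.of_hasPullback a ξ).map ((evaluation _ _).obj T')
  obtain ⟨hPs, -⟩ := ha ξ _ _ (IsPullback.of_hasPullback a ξ)
  have hPs' := ((isSheaf_iff_isSheaf_of_type _ _).1 hPs) R hR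
  have hz : ∀ {T' : Over S} (φ : T' ⟶ T) (_ : R φ), ∃ z : (pullback a ξ).obj (op T'),
      (pullback.snd a ξ).app _ z = ⟨φ⟩ := fun {T'} φ hφ => by
    obtain ⟨y, hy⟩ := h φ hφ
    obtain ⟨z, -, hz⟩ := Types.exists_of_isPullback (hP _) y ⟨φ⟩ hy
    exact ⟨z, hz⟩
  have hinj : ∀ T', Function.Injective ((pullback.snd a ξ).app T') := fun T' => injective_app _ T'
  let z : Presieve.FamilyOfElements (pullback a ξ) R.arrows := fun T' φ hφ => (hz φ hφ).choose
  have hz₂ : ∀ {T' : Over S} (φ : T' ⟶ T) (hφ : R φ), (pullback.snd a ξ).app _ (z φ hφ) = ⟨φ⟩ :=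
    fun φ hφ => (hz φ hφ).choose_spec
  have hzc : z.Compatible := fun Y₁ Y₂ Z g₁ g₂ f₁ f₂ h₁ h₂ e => hinj _ (by
    rw [NatTrans.naturality_apply, NatTrans.naturality_apply, hz₂ f₁ h₁, hz₂ f₂ h₂]
    exact congrArg ULift.up e)
  let z₀ := hPs'.amalgamate z hzc
  have h1 : (pullback.snd a ξ).app (op T) z₀ = ⟨𝟙 T⟩ := by
    refine (((isSheaf_iff_isSheaf_of_type _ _).1 ((yon S).obj T).property) R hR).isSeparatedFor.ext
      fun T' φ hφ => ?_
    show ((pyon S).obj T).map φ.op _ = ((pyon S).obj T).map φ.op _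
    rw [← NatTrans.naturality_apply, hPs'.valid_glue hzc φ hφ, hz₂ φ hφ]
    exact congrArg ULift.up (Category.comp_id φ).symm
  refine ⟨(pullback.fst a ξ).app _ z₀, ?_⟩
  have h2 : a.app (op T) ((pullback.fst a ξ).app _ z₀) = ξ.app (op T) ((pullback.snd a ξ).app _ z₀) :=
    congrArg (fun q : (pullback a ξ).obj (op T) ⟶ F.obj (op T) => q z₀) (hP (op T)).w
  rw [h2, h1, hξ, op_id, F.map_id]
  rfl

/-- Refinement of a covering sieve by fppf surjections onto opens. -/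
theorem exists_pieces {T : Over S} {R : Sieve T} (hR : R ∈ J S T) :
    ∃ (I : Type u) (O : I → T.left.Opens) (W : I → Over S) (g : ∀ j, W j ⟶ zObj T (O j)),
      (∀ x : T.left, ∃ j, x ∈ O j) ∧ (∀ j, AlgSpLib.fppf (g j).left) ∧ ∀ j, R (g j ≫ zι T (O j)) := by
  rw [GrothendieckTopology.mem_over_iff] at hR
  obtain ⟨I, W, f, hf, hflat, hlfp, hcov⟩ := GITQuot.exists_cover hR
  haveI := hflat
  haveI := hlfp
  let O : I → T.left.Opens := fun j => ⟨Set.range (f j), (f j).isOpenMap.isOpen_range⟩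
  let g : ∀ j, W j ⟶ (O j).toScheme := fun j =>
    IsOpenImmersion.lift (O j).ι (f j) (by rw [Scheme.Opens.range_ι]; rfl)
  have hg : ∀ j, g j ≫ (O j).ι = f j := fun j => IsOpenImmersion.lift_fac _ _ _
  refine ⟨I, O, fun j => Over.mk (f j ≫ T.hom), fun j => Over.homMk (g j) (by
    show g j ≫ (O j).ι ≫ T.hom = f j ≫ T.hom
    rw [reassoc_of% (hg j)]), fun x => ?_, fun j => ?_, fun j => ?_⟩
  · obtain ⟨i, w, hw⟩ := hcov x
    exact ⟨i, w, hw⟩
  · have sq : IsPullback (g j) (𝟙 (W j)) (O j).ι (f j) :=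
      IsPullback.of_vert_isIso_mono ⟨by rw [hg, Category.id_comp]⟩
    have hs : Surjective (g j) := ⟨fun x => by
      obtain ⟨w, hw⟩ := x.2
      exact ⟨w, (O j).ι.isOpenEmbedding.injective ((Scheme.Hom.comp_apply _ _ _).symm.trans
        ((congrArg (fun φ : W j ⟶ T.left => φ w) (hg j)).trans hw))⟩⟩
    exact @fppf_of _ _ (g j) hs (MorphismProperty.of_isPullback sq.flip (hflat j))
      (MorphismProperty.of_isPullback sq.flip (hlfp j))
  · obtain ⟨x, hx⟩ : ∃ φ : Over.mk (f j ≫ T.hom) ⟶ T, R φ ∧ φ.left = f j :=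
      ⟨_, (Sieve.overEquiv_iff _ _).1 (hf j), rfl⟩
    convert hx.1 using 1
    exact Over.OverMorphism.ext ((hg j).trans hx.2.symm)

variable (h1 : Presheaf.IsSheaf (QuotSh.J Scheme.zariskiPrecoverage S) F) (m : ∀ i, Fi i ⟶ F) [∀ i, Mono (m i)]
  (ha : ∀ i, Presheaf.IsSheaf (J S) (Fi i)) (hb : ∀ i, RepBySp (m i))
  (hc : ∀ (T : Over S) (x : F.obj (op T)), ∃ R ∈ (J S) T,
    ∀ ⦃T' : Over S⦄ (f : T' ⟶ T), R.arrows f → ∃ i, F.map f.op x ∈ Set.range ((m i).app (op T')))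

include ha hb in
theorem eq_of_piece {W O : Over S} (g : W ⟶ O) (hg : AlgSpLib.fppf g.left) (i : ι) {a b : F.obj (op O)}
    (hai : F.map g.op a ∈ Set.range ((m i).app _)) (h : F.map g.op a = F.map g.op b) : a = b := by
  let R : Sieve O := Sieve.generate (Presieve.singleton g)
  have hR : R ∈ J S O := mem_J_of_fppf g hg _ ⟨W, 𝟙 W, g, Presieve.singleton_self g, Category.id_comp _⟩
  have mem : ∀ c : F.obj (op O), F.map g.op c ∈ Set.range ((m i).app _) →
      ∃ y, (m i).app (op O) y = c := fun c hcm => mem_range_of_cover (m i) (hb i) c hR (by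
    rintro Z _ ⟨_, l, _, ⟨⟩, rfl⟩
    obtain ⟨y, hy⟩ := hcm
    exact ⟨(Fi i).map l.op y, by rw [NatTrans.naturality_apply, hy, map_map']⟩)
  obtain ⟨y, rfl⟩ := mem a hai
  obtain ⟨z, rfl⟩ := mem b (h ▸ hai)
  refine congrArg _ ((((isSheaf_iff_isSheaf_of_type _ _).1 (ha i)) R hR).isSeparatedFor.ext ?_)
  rintro Z _ ⟨_, l, _, ⟨⟩, rfl⟩
  refine injective_app (m i) _ ?_
  rw [NatTrans.naturality_apply, NatTrans.naturality_apply, ← map_map', h, map_map']

include h1 ha hb hc in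
theorem isSeparated {T : Over S} {R : Sieve T} (hR : R ∈ J S T) {a b : F.obj (op T)}
    (h : ∀ ⦃T' : Over S⦄ (φ : T' ⟶ T), R φ → F.map φ.op a = F.map φ.op b) : a = b := by
  obtain ⟨Ra, hRa, hRai⟩ := hc T a
  obtain ⟨I, O, W, g, hO, hg, hgR⟩ := exists_pieces ((J S).intersection_covering hR hRa)
  refine ext_opens (F := F) ((isSheaf_iff_isSheaf_of_type _ _).1 h1) O hO fun j => ?_
  obtain ⟨i, hi⟩ := hRai _ (hgR j).2
  refine eq_of_piece m ha hb (g j) (hg j) i ?_ ?_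
  · rw [map_map']; exact hi
  · rw [map_map', map_map']; exact h _ (hgR j).1

include h1 ha hb hc in
theorem isSheaf : Presheaf.IsSheaf (J S) F := by
  rw [isSheaf_iff_isSheaf_of_type]
  intro T R hR x hx
  choose Q hQ hQi using fun (Y : Over S) (f : Y ⟶ T) (hf : R f) => hc Y (x f hf)
  have hR' : Sieve.bind R.arrows Q ∈ J S T := (J S).bind_covering hR fun Y f hf => hQ Y f hf
  obtain ⟨I, O, W, g, hO, hg, hgR⟩ := exists_pieces hR'
  have hsi : ∀ j, ∃ i, ∀ (h : R (g j ≫ zι T (O j))), x _ h ∈ Set.range ((m i).app _) := fun j => by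
    obtain ⟨Y, l, f, hf, hl, e⟩ := hgR j
    obtain ⟨i, hi⟩ := hQi Y f hf l hl
    refine ⟨i, fun h => ?_⟩
    have e' := hx l (𝟙 _) hf h (by rw [e, Category.id_comp])
    rw [e', op_id, F.map_id] at hi
    exact hi
  have hmem : ∀ j, R (g j ≫ zι T (O j)) := fun j => by
    obtain ⟨Y, l, f, hf, -, e⟩ := hgR j
    rw [← e]; exact R.downward_closed hf l
  choose i hi using hsi
  have hloc : ∀ j, ∃ s : F.obj (op (zObj T (O j))), ∀ ⦃Z : Over S⦄ (ψ : Z ⟶ zObj T (O j))
      (hψ : R (ψ ≫ zι T (O j))), F.map ψ.op s = x _ hψ := fun j => by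
    let P : Sieve (zObj T (O j)) := Sieve.generate (Presieve.singleton (g j))
    have hP : P ∈ J S _ := mem_J_of_fppf (g j) (hg j) _ ⟨_, 𝟙 _, g j, Presieve.singleton_self _, Category.id_comp _⟩
    have hPR : ∀ {Z : Over S} (φ : Z ⟶ zObj T (O j)), P φ → R (φ ≫ zι T (O j)) := by
      rintro Z _ ⟨_, l, _, ⟨⟩, rfl⟩
      rw [Category.assoc]; exact R.downward_closed (hmem j) l
    have hy : ∀ {Z : Over S} (φ : Z ⟶ zObj T (O j)) (hφ : P φ), ∃ y, (m (i j)).app (op Z) y = x _ (hPR φ hφ) := by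
      rintro Z _ ⟨_, l, _, ⟨⟩, rfl⟩
      obtain ⟨y, hy⟩ := hi j (hmem j)
      refine ⟨(Fi (i j)).map l.op y, ?_⟩
      rw [NatTrans.naturality_apply, hy]
      have := hx l (𝟙 Z) (hmem j) (hPR (l ≫ g j) ⟨_, l, _, Presieve.singleton_self _, rfl⟩)
        (by rw [Category.id_comp, Category.assoc])
      rw [this, op_id, F.map_id]
      rfl
    let y : Presieve.FamilyOfElements (Fi (i j)) P.arrows := fun Z φ hφ => (hy φ hφ).choose
    have hy' : ∀ {Z : Over S} (φ : Z ⟶ zObj T (O j)) (hφ : P φ),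
        (m (i j)).app (op Z) (y φ hφ) = x _ (hPR φ hφ) := fun φ hφ => (hy φ hφ).choose_spec
    have hyc : y.Compatible := fun Y₁ Y₂ Z g₁ g₂ f₁ f₂ h₁ h₂ e => injective_app (m (i j)) _ (by
      rw [NatTrans.naturality_apply, NatTrans.naturality_apply, hy' f₁ h₁, hy' f₂ h₂]
      exact hx _ _ _ _ (by rw [← Category.assoc, ← Category.assoc, e]))
    have hS := ((isSheaf_iff_isSheaf_of_type _ _).1 (ha (i j))) P hP
    refine ⟨(m (i j)).app _ (hS.amalgamate y hyc), fun Z ψ hψ => ?_⟩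
    refine isSeparated h1 m ha hb hc ((J S).pullback_stable ψ hP) fun V φ hφ => ?_
    rw [map_map', ← NatTrans.naturality_apply, hS.valid_glue hyc _ hφ, hy' _ hφ]
    have := hx φ (𝟙 V) hψ (hPR _ hφ) (by rw [Category.id_comp, Category.assoc])
    rw [this, op_id, F.map_id]
    rfl
  choose s hs using hloc
  have hz := (isSheaf_iff_isSheaf_of_type _ _).1 h1
  have hZ := isSheafFor_zar (F := F) hz (fun j => zObj T (O j)) (fun j => zι T (O j))
    (fun j => inferInstanceAs (IsOpenImmersion (O j).ι))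
    (fun t => by obtain ⟨j, hj⟩ := hO t; exact ⟨j, ⟨t, hj⟩, rfl⟩)
  rw [Presieve.isSheafFor_arrows_iff] at hZ
  obtain ⟨t, ht, -⟩ := hZ s (fun j l Z a b e => by
    refine isSeparated h1 m ha hb hc ((J S).pullback_stable (a ≫ zι T (O j)) hR) fun V φ hφ => ?_
    have hφ' : R ((φ ≫ b) ≫ zι T (O l)) := by
      rw [Category.assoc, ← e]; exact hφ
    rw [map_map', map_map', hs j (φ ≫ a) (by rw [Category.assoc]; exact hφ), hs l (φ ≫ b) hφ']
    congr 1
    rw [Category.assoc, Category.assoc, e])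
  have hC := ofArrows_mem_zar (Y := T) (fun j => zObj T (O j)) (fun j => zι T (O j))
    (fun j => inferInstanceAs (IsOpenImmersion (O j).ι))
    (fun p => by obtain ⟨j, hj⟩ := hO p; exact ⟨j, ⟨p, hj⟩, rfl⟩)
  refine ⟨t, fun Y f hf => ?_, fun t' ht' => isSeparated h1 m ha hb hc hR fun Y f hf => ?_⟩
  · refine (hz _ (GrothendieckTopology.pullback_stable _ f hC)).isSeparatedFor.ext fun Z φ hφ => ?_
    obtain ⟨j, q, hq⟩ := (Sieve.mem_ofArrows_iff _ _ _).1 hφ
    have hqR : R (q ≫ zι T (O j)) := by rw [← hq]; exact R.downward_closed hf φ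
    rw [map_map', hq, ← map_map', ht j, hs j q hqR]
    have := hx φ (𝟙 Z) hf hqR (by rw [Category.id_comp, hq])
    rw [this, op_id, F.map_id]
    rfl
  · rw [ht' f hf]
    refine Eq.symm ((hz _ (GrothendieckTopology.pullback_stable _ f hC)).isSeparatedFor.ext fun Z φ hφ => ?_)
    obtain ⟨j, q, hq⟩ := (Sieve.mem_ofArrows_iff _ _ _).1 hφ
    have hqR : R (q ≫ zι T (O j)) := by rw [← hq]; exact R.downward_closed hf φ
    rw [map_map', hq, ← map_map', ht j, hs j q hqR]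
    have := hx φ (𝟙 Z) hf hqR (by rw [Category.id_comp, hq])
    rw [this, op_id, F.map_id]
    rfl

end Groth.Agent.AlgSpGrp5.ZarFppf
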